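import Cfsg.Agent.Lib.HallE8.Basic
import Cfsg.Agent.Lib.InvTimesAlt.Count
import Cfsg.Agent.S0223
import Cfsg.Agent.S1224

/-!
The strongly embedded subgroup `M` containing all solvable overgroups of `S`, and the elements inverted by
an involution outside `M`.
-/

set_option autoImplicit false
set_option linter.unusedSectionVars false
set_option linter.style.haveILetI false

namespace CfsgLib.HallE8

open Cfsg Subgroup CfsgLib.ZCReduction
open scoped Pointwise

universe u

variable {G : Type u} [Group G] [Finite G]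

/-- The configuration: `M` contains every proper overgroup of `S`. -/
structure Local (S : Sylow 2 G) (M : Subgroup G) : Prop where
  base : Base S
  NS : normalizer ((S : Subgroup G) : Set G) ≤ M
  ne_top : M ≠ ⊤
  simple : IsSimpleGroup G
  cent : ∀ t ∈ (S : Subgroup G), t ≠ 1 → centralizer ({t} : Set G) ≤ M
  solv : Group.IsSolvable M
  trans : ∀ a ∈ (S : Subgroup G), ∀ b ∈ (S : Subgroup G), a ≠ 1 → b ≠ 1 →
    ∃ n ∈ normalizer ((S : Subgroup G) : Set G), n * a * n⁻¹ = b
  uniq : ∀ H : Subgroup G, H ≠ ⊤ → (S : Subgroup G) ≤ H → H ≤ M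

theorem exists_conj_into_sylow (S : Sylow 2 G) {P : Subgroup G} (hP : IsPGroup 2 P) :
    ∃ m : G, ∀ w ∈ P, m * w * m⁻¹ ∈ (S : Subgroup G) := by
  haveI : Fact (Nat.Prime 2) := ⟨Nat.prime_two⟩
  obtain ⟨T, hT⟩ := hP.exists_le_sylow
  obtain ⟨m, hm⟩ := MulAction.exists_smul_eq G T S
  refine ⟨m, fun w hw => ?_⟩
  rw [← hm, Sylow.coe_subgroup_smul]
  exact smul_mem_pointwise_smul w (MulAut.conj m) (T : Subgroup G) (hT hw)

theorem normal_cases (hs : IsSimpleGroup G) (N : Subgroup G) [N.Normal] : N = ⊥ ∨ N = ⊤ :=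
  hs.eq_bot_or_eq_top_of_normal N inferInstance

/-- The normalizer of a nontrivial proper subgroup is proper. -/
theorem normalizer_ne_top (hs : IsSimpleGroup G) {K : Subgroup G} (h0 : K ≠ ⊥) (h1 : K ≠ ⊤) :
    normalizer (K : Set G) ≠ ⊤ := fun e => by
  haveI : K.Normal := normalizer_eq_top_iff.mp e
  rcases normal_cases hs K with h | h
  exacts [h0 h, h1 h]

theorem exists_local (S : Sylow 2 G) (hb : Base S) (hs : IsSimpleGroup G) (hns : ¬ Group.IsSolvable G)
    (hind : ∀ H : Subgroup G, H ≠ ⊤ → (S : Subgroup G) ≤ H → Group.IsSolvable H) :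
    ∃ M, Local S M := by
  classical
  haveI : Fact (Nat.Prime 2) := ⟨Nat.prime_two⟩
  haveI := hb.isMulCommutative
  have hnab : ¬ IsMulCommutative G := fun hc => hns (isSolvable_of_comm hc.is_comm.comm)
  have hS0 : (S : Subgroup G) ≠ ⊥ := fun e => by
    have := hb.card; rw [e, card_bot] at this; omega
  have hS1 : (S : Subgroup G) ≠ ⊤ := fun e => hnab ⟨⟨fun a b =>
    hb.comm (e ▸ mem_top a) (e ▸ mem_top b)⟩⟩
  -- centralizers of involutions are proper
  have hC1 : ∀ t : G, t ≠ 1 → centralizer ({t} : Set G) ≠ ⊤ := by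
    intro t ht e
    rcases normal_cases hs (center G) with h | h
    · refine ht (mem_bot.mp (h ▸ mem_center_iff.mpr fun g => ?_))
      exact mem_centralizer_singleton_iff.mp (e ▸ mem_top g)
    · exact hnab ⟨⟨fun a b => mem_center_iff.mp (h ▸ mem_top b) a⟩⟩
  have hCs : ∀ t ∈ (S : Subgroup G), t ≠ 1 → Group.IsSolvable ↥(centralizer ({t} : Set G)) :=
    fun t ht ht1 => hind _ (hC1 t ht1) (hb.le_centralizer ht)
  have hsc : SolvCent G := by
    intro t ht
    obtain ⟨m, hm⟩ := exists_conj_into_sylow S (IsPGroup.of_card (n := 1) (G := ↥(zpowers t)) (by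
      rw [Nat.card_zpowers, ht, pow_one]))
    have hti := isInvol_of_orderOf ht
    haveI := hCs _ (hm t (mem_zpowers t)) (hti.conj m).1
    exact Group.isSolvable_of_isSolvable_injective
      (f := ((MulAut.conj m).toMonoidHom.comp (centralizer ({t} : Set G)).subtype).codRestrict
        (centralizer ({m * t * m⁻¹} : Set G)) fun c => mem_cent_of_commute
          (conj_commute m (commute_of_mem_cent c.2)))
      (fun a b e => Subtype.ext (MulEquiv.injective (MulAut.conj m)
        (congrArg (fun w : centralizer ({m * t * m⁻¹} : Set G) => (w : G)) e)))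
  -- three independent involutions
  obtain ⟨a, haS, ha1⟩ := (bot_or_exists_ne_one (S : Subgroup G)).resolve_left hS0
  have hai : IsInvol a := ⟨ha1, hb.sq a haS⟩
  obtain ⟨b, hbS, hb1, hba⟩ : ∃ b ∈ (S : Subgroup G), b ≠ 1 ∧ b ≠ a := by
    by_contra hc
    push Not at hc
    have : ((S : Subgroup G) : Set G) ⊆ {1, a} := fun w hw => by
      by_cases e : w = 1
      · exact Or.inl e
      · exact Or.inr (hc w hw e)
    have h2 := (Set.ncard_le_ncard this (Set.toFinite _)).trans (Set.ncard_insert_le _ _)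
    rw [← Nat.card_coe_set_eq, SetLike.coe_sort_coe, hb.card, Set.ncard_singleton] at h2
    omega
  have hbi : IsInvol b := ⟨hb1, hb.sq b hbS⟩
  obtain ⟨c, hcS, hc1, hca, hcb, hcab⟩ : ∃ c ∈ (S : Subgroup G), c ≠ 1 ∧ c ≠ a ∧ c ≠ b ∧ c ≠ a * b := by
    by_contra hc
    push Not at hc
    have : ((S : Subgroup G) : Set G) ⊆ {1, a, b, a * b} := fun w hw => by
      simp only [Set.mem_insert_iff, Set.mem_singleton_iff]
      by_cases e : w = 1
      · exact Or.inl e
      by_cases e' : w = a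
      · exact Or.inr (Or.inl e')
      by_cases e'' : w = b
      · exact Or.inr (Or.inr (Or.inl e''))
      exact Or.inr (Or.inr (Or.inr (hc w hw e e' e'')))
    have h2 := Set.ncard_le_ncard this (Set.toFinite _)
    rw [← Nat.card_coe_set_eq, SetLike.coe_sort_coe, hb.card] at h2
    have h3 := Set.ncard_insert_le (1 : G) {a, b, a * b}
    have h4 := Set.ncard_insert_le a ({b, a * b} : Set G)
    have h5 := Set.ncard_insert_le b ({a * b} : Set G)
    rw [Set.ncard_singleton] at h5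
    omega
  have hci : IsInvol c := ⟨hc1, hb.sq c hcS⟩
  set W := theta a ⊔ theta b ⊔ theta (a * b) with hW
  have hθ : ∀ t ∈ (S : Subgroup G), t ≠ 1 → theta t ≤ W := fun t ht ht1 =>
    theta_le_sup hsc ⟨ht1, hb.sq t ht⟩ hai hbi (Ne.symm hba) (hb.comm haS hbS) (hb.comm haS ht) (hb.comm hbS ht)
  have hWodd : ¬ 2 ∣ Nat.card W := not_two_dvd_closure hsc hai hbi hci (hb.comm haS hbS) (hb.comm haS hcS)
    (hb.comm hbS hcS) (Ne.symm hba) hca hcb hcab le_rfl
  have hab1 := (hai.mul hbi (hb.comm haS hbS) (Ne.symm hba)).1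
  have hNW : normalizer ((S : Subgroup G) : Set G) ≤ normalizer (W : Set G) := by
    intro n hn
    have hmem : ∀ t ∈ (S : Subgroup G), t ≠ 1 → theta (n * t * n⁻¹) ≤ W := fun t ht ht1 =>
      hθ _ ((mem_normalizer_iff.mp hn t).mp ht) fun e => ht1 (conj_eq_one_iff.mp e)
    refine mem_normalizer_iff_map_conj_eq.mpr (eq_of_le_of_card_ge ?_
      (card_map_of_injective (MulEquiv.injective (MulAut.conj n))).ge)
    rw [hW, Subgroup.map_sup, Subgroup.map_sup]
    exact sup_le (sup_le ((theta_conj n a).le.trans (hmem a haS ha1)) ((theta_conj n b).le.trans (hmem b hbS hb1)))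
      ((theta_conj n (a * b)).le.trans (hmem _ (mul_mem haS hbS) hab1))
  obtain ⟨M, hNM, hMne, hθM⟩ : ∃ M : Subgroup G, normalizer ((S : Subgroup G) : Set G) ≤ M ∧ M ≠ ⊤ ∧
      ∀ t ∈ (S : Subgroup G), t ≠ 1 → theta t ≤ M := by
    by_cases hW0 : W = ⊥
    · exact ⟨_, le_rfl, normalizer_ne_top hs hS0 hS1, fun t ht ht1 => (hθ t ht ht1).trans (hW0 ▸ bot_le)⟩
    · refine ⟨_, hNW, normalizer_ne_top hs hW0 fun e => hWodd ?_, fun t ht ht1 =>
        (hθ t ht ht1).trans le_normalizer⟩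
      rw [e, card_top]
      exact (by rw [hb.card]; norm_num : 2 ∣ Nat.card (S : Subgroup G)).trans (card_subgroup_dvd_card _)
  have hSM : (S : Subgroup G) ≤ M := le_normalizer.trans hNM
  have hcent : ∀ t ∈ (S : Subgroup G), t ≠ 1 → centralizer ({t} : Set G) ≤ M := by
    intro t ht ht1 g hg
    obtain ⟨o, ho, n, -, hn, rfl⟩ := hb.exists_decomp (hCs t ht ht1) (hb.le_centralizer ht) hg
    exact mul_mem (hθM t ht ht1 ho) (hNM hn)
  refine ⟨M, hb, hNM, hMne, hs, hcent, hind M hMne hSM,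
    CfsgLib.E8Solv.transitive (fun H hH => ?_) S hb.card, fun H hH hSH => ?_⟩
  · haveI : H.Normal := normal_of_index_eq_two hH
    rcases normal_cases hs H with rfl | rfl
    · rw [index_bot] at hH
      haveI : IsCyclic G := isCyclic_of_prime_card (p := 2) hH
      exact hnab ⟨⟨fun x y => (IsCyclic.commGroup (α := G)).mul_comm x y⟩⟩
    · rw [index_top] at hH; omega
  · intro g hg
    obtain ⟨o, ho, n, -, hn, rfl⟩ := hb.exists_decomp (hind H hH hSH) hSH hg
    refine mul_mem ?_ (hNM hn)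
    set R := (pPrimeCore 2 H).map H.subtype with hR
    have hRn : (S : Subgroup G) ≤ normalizer (R : Set G) :=
      hSH.trans (CfsgLib.PairsSylow.le_normalizer_map_pPrimeCore H)
    have hgen := CfsgLib.coprime_generated_by_centralizers (K := R) hb.not_cyclic hRn (by
      rw [hb.card]
      exact Nat.Coprime.pow_left 3 (Nat.prime_two.coprime_iff_not_dvd.mpr
        (CfsgLib.PairsSylow.not_dvd_map_pPrimeCore H)))
    have : R ≤ M := hgen ▸ iSup₂_le fun w hw => inf_le_right.trans (hcent w hw.1 hw.2)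
    exact this ho

namespace Local

variable {S : Sylow 2 G} {M : Subgroup G}

theorem SM (h : Local S M) : (S : Subgroup G) ≤ M := le_normalizer.trans h.NS

theorem invol_into (h : Local S M) {s : G} (hs : orderOf s = 2) (hsM : s ∈ M) :
    ∃ m ∈ M, m * s * m⁻¹ ∈ (S : Subgroup G) := by
  haveI : Fact (Nat.Prime 2) := ⟨Nat.prime_two⟩
  obtain ⟨m, hm⟩ := exists_conj_into_sylow (S.subtype h.SM)
    (IsPGroup.of_card (n := 1) (G := ↥(zpowers (⟨s, hsM⟩ : ↥M))) (by rw [Nat.card_zpowers, orderOf_mk, hs, pow_one]))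
  exact ⟨m, m.2, hm _ (mem_zpowers _)⟩

theorem conj_M (h : Local S M) {s t : G} (hs : orderOf s = 2) (hsM : s ∈ M) (ht : t ∈ (S : Subgroup G))
    (ht1 : t ≠ 1) : ∃ m ∈ M, m * t * m⁻¹ = s := by
  obtain ⟨m, hm, hmS⟩ := h.invol_into hs hsM
  obtain ⟨n, hn, e⟩ := h.trans t ht _ hmS ht1 ((isInvol_of_orderOf hs).conj m).1
  refine ⟨m⁻¹ * n, mul_mem (inv_mem hm) (h.NS hn), ?_⟩
  rw [show m⁻¹ * n * t * (m⁻¹ * n)⁻¹ = m⁻¹ * (n * t * n⁻¹) * m by group, e]
  group

theorem exists_invol (h : Local S M) : ∃ t ∈ (S : Subgroup G), t ≠ 1 :=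
  (bot_or_exists_ne_one (S : Subgroup G)).resolve_left fun e => by
    have := h.base.card; rw [e, card_bot] at this; omega

theorem even_M (h : Local S M) : Even (Nat.card M) :=
  even_iff_two_dvd.mpr ((by rw [h.base.card]; norm_num : 2 ∣ Nat.card (S : Subgroup G)).trans
    (card_dvd_of_le h.SM))

theorem cent_M (h : Local S M) {s : G} (hs : orderOf s = 2) (hsM : s ∈ M) :
    centralizer ({s} : Set G) ≤ M := by
  obtain ⟨t, ht, ht1⟩ := h.exists_invol
  obtain ⟨m, hm, e⟩ := h.conj_M hs hsM ht ht1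
  intro c hc
  have h2 : m⁻¹ * c * m ∈ M := h.cent t ht ht1 (mem_cent_of_commute (by
    have h3 := conj_commute m⁻¹ (commute_of_mem_cent hc)
    rw [← e, show m⁻¹ * (m * t * m⁻¹) * m⁻¹⁻¹ = t by group, inv_inv] at h3
    exact h3))
  have := mul_mem (mul_mem hm h2) (inv_mem hm)
  rwa [show m * (m⁻¹ * c * m) * m⁻¹ = c by group] at this

theorem strongly (h : Local S M) : IsStronglyEmbedded M := by
  refine (Cfsg.Agent.S0223.result M h.ne_top h.even_M).mpr
    ⟨fun s hsM hs => h.cent_M hs hsM, fun s hs r hr hso hro _ => ?_⟩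
  obtain ⟨t, ht, ht1⟩ := h.exists_invol
  obtain ⟨m, hm, e⟩ := h.conj_M hso hs ht ht1
  obtain ⟨m', hm', e'⟩ := h.conj_M hro hr ht ht1
  refine ⟨m' * m⁻¹, mul_mem hm' (inv_mem hm), ?_⟩
  rw [← e, ← e']; group

/-- An involution of `M` lies in no other conjugate. -/
theorem mem_of_invol (h : Local S M) {s g : G} (hs : orderOf s = 2) (hsM : s ∈ M) (hg : g * s * g⁻¹ ∈ M) :
    g ∈ M := by
  by_contra hgM
  have h1 := h.strongly.2.2 g hgM
  have h2 : g * s * g⁻¹ ∈ M ⊓ M.map (MulAut.conj g).toMonoidHom := ⟨hg, s, hsM, rfl⟩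
  have h3 := orderOf_dvd_natCard _ h2
  rw [((isInvol_of_orderOf hs).conj g).orderOf_eq] at h3
  exact (Nat.not_even_iff_odd.mpr h1) (even_iff_two_dvd.mpr h3)

/-- Proper subgroups containing a conjugate of `S` by an element of `M` lie in `M`. -/
theorem uniq_conj (h : Local S M) {H : Subgroup G} (hH : H ≠ ⊤) {m : G} (hm : m ∈ M)
    (hS : ∀ s ∈ (S : Subgroup G), m * s * m⁻¹ ∈ H) : H ≤ M := by
  set H' := H.map (MulAut.conj m⁻¹).toMonoidHom with hH'
  have h1 : H' ≠ ⊤ := fun e => hH (by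
    apply Subgroup.map_injective (f := (MulAut.conj m⁻¹).toMonoidHom) (MulEquiv.injective (MulAut.conj m⁻¹))
    rw [← hH', e, map_top_of_surjective _ (MulEquiv.surjective (MulAut.conj m⁻¹))])
  have h2 := h.uniq H' h1 fun s hs => ⟨m * s * m⁻¹, hS s hs, by simp [mul_assoc]⟩
  intro g hg
  have h3 : m⁻¹ * g * m ∈ M := h2 ⟨g, hg, by simp⟩
  have := mul_mem (mul_mem hm h3) (inv_mem hm)
  rwa [show m * (m⁻¹ * g * m) * m⁻¹ = g by group] at this

theorem exists_swap (h : Local S M) {g : G} (hg : g ∉ M) :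
    ∃ u : G, orderOf u = 2 ∧ u ∉ M ∧ M.map (MulAut.conj u).toMonoidHom = M.map (MulAut.conj g).toMonoidHom := by
  have hxy : ((1 : G) : G ⧸ M) ≠ (g : G ⧸ M) := fun e => hg (by simpa using QuotientGroup.eq.mp e)
  have h1 := Cfsg.Agent.S1224.result M h.strongly _ _ hxy
  obtain ⟨t, ht, ht1⟩ := h.exists_invol
  haveI : Nonempty {t : G // orderOf t = 2 ∧ t ∈ M} := ⟨⟨t, h.base.invol ht ht1, h.SM ht⟩⟩
  have h2 : 0 < Nat.card {i : G // orderOf i = 2 ∧ i • ((1 : G) : G ⧸ M) = (g : G ⧸ M)} :=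
    h1 ▸ Nat.card_pos
  obtain ⟨⟨u, hu, hug⟩⟩ := (Nat.card_pos_iff.mp h2).1
  have h3 : u⁻¹ * g ∈ M := QuotientGroup.eq.mp (by
    rwa [MulAction.Quotient.smul_mk, smul_eq_mul, mul_one] at hug)
  refine ⟨u, hu, fun hu' => hg ?_, ?_⟩
  · have := mul_mem hu' h3
    rwa [mul_inv_cancel_left] at this
  · have e : g = u * (u⁻¹ * g) := by group
    have e2 : M.map (MulAut.conj (u⁻¹ * g)).toMonoidHom = M :=
      mem_normalizer_iff_map_conj_eq.mp (le_normalizer h3)
    conv_rhs => rw [e, map_mul (MulAut.conj (G := G))]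
    rw [show ((MulAut.conj u * MulAut.conj (u⁻¹ * g) : MulAut G)).toMonoidHom =
      (MulAut.conj u).toMonoidHom.comp (MulAut.conj (u⁻¹ * g)).toMonoidHom from rfl, ← map_map, e2]

/-- The intersection with the conjugate by an involution. -/
abbrev inter (M : Subgroup G) (u : G) : Subgroup G := M ⊓ M.map (MulAut.conj u).toMonoidHom

theorem inter_odd (h : Local S M) {u : G} (hu : u ∉ M) : Odd (Nat.card (inter M u)) := h.strongly.2.2 u hu

theorem mem_inter {u x : G} (hu : u * u = 1) : x ∈ inter M u ↔ x ∈ M ∧ u * x * u ∈ M := by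
  have hui : u⁻¹ = u := inv_eq_of_mul_eq_one_left hu
  constructor
  · rintro ⟨h1, y, hy, rfl⟩
    refine ⟨h1, ?_⟩
    show u * (u * y * u⁻¹) * u ∈ M
    rwa [hui, show u * (u * y * u) * u = (u * u) * y * (u * u) by group, hu, one_mul, mul_one]
  · rintro ⟨h1, h2⟩
    refine ⟨h1, u * x * u, h2, ?_⟩
    show u * (u * x * u) * u⁻¹ = x
    rw [hui, show u * (u * x * u) * u = (u * u) * x * (u * u) by group, hu, one_mul, mul_one]

theorem inter_swap {u x : G} (hu : u * u = 1) (hx : x ∈ inter M u) : u * x * u ∈ inter M u := by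
  rw [mem_inter hu] at hx ⊢
  refine ⟨hx.2, ?_⟩
  rw [show u * (u * x * u) * u = (u * u) * x * (u * u) by group, hu, one_mul, mul_one]
  exact hx.1

/-- The inverted elements correspond to the involutions of `M`. -/
theorem card_inverted (h : Local S M) {u : G} (hu : orderOf u = 2) (huM : u ∉ M) :
    Nat.card {d : G // d ∈ inter M u ∧ u * d * u = d⁻¹} = Nat.card {s : G // orderOf s = 2 ∧ s ∈ M} := by
  have hxy : ((1 : G) : G ⧸ M) ≠ (u : G ⧸ M) := fun e => huM (by simpa using QuotientGroup.eq.mp e)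
  rw [← Cfsg.Agent.S1224.result M h.strongly _ _ hxy]
  have huu := (isInvol_of_orderOf hu).2
  have hui := inv_eq_of_mul_eq_one_left huu
  refine Nat.card_congr
    { toFun := fun d => ⟨u * d.1, ?_, ?_⟩
      invFun := fun i => ⟨u * i.1, ?_, ?_⟩
      left_inv := fun d => Subtype.ext (by
        show u * (u * d.1) = d.1
        rw [← mul_assoc, huu, one_mul])
      right_inv := fun i => Subtype.ext (by
        show u * (u * i.1) = i.1
        rw [← mul_assoc, huu, one_mul]) }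
  · refine IsInvol.orderOf_eq ⟨fun e => huM ?_, ?_⟩
    · rw [← hui, ← eq_inv_of_mul_eq_one_right e]; exact (mem_inter huu).mp d.2.1 |>.1
    · rw [← mul_assoc, d.2.2, inv_mul_cancel]
  · rw [MulAction.Quotient.smul_mk, smul_eq_mul, mul_one]
    refine QuotientGroup.eq.mpr ?_
    rw [mul_inv_rev, mul_assoc, inv_mul_cancel, mul_one]
    exact inv_mem ((mem_inter huu).mp d.2.1).1
  · obtain ⟨i, hi, hiu⟩ := i
    rw [MulAction.Quotient.smul_mk, smul_eq_mul, mul_one] at hiu
    have h1 : i⁻¹ * u ∈ M := QuotientGroup.eq.mp hiu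
    have hii := inv_eq_of_mul_eq_one_left (isInvol_of_orderOf hi).2
    rw [hii] at h1
    refine (mem_inter huu).mpr ⟨?_, ?_⟩
    · have := inv_mem h1; rwa [mul_inv_rev, hii, hui] at this
    · show u * (u * i) * u ∈ M
      rwa [← mul_assoc, huu, one_mul]
  · obtain ⟨i, hi, -⟩ := i
    show u * (u * i) * u = (u * i)⁻¹
    rw [← mul_assoc, huu, one_mul, mul_inv_rev, hui, inv_eq_of_mul_eq_one_left (isInvol_of_orderOf hi).2]

theorem card_inter (h : Local S M) {u : G} (hu : orderOf u = 2) (huM : u ∉ M) :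
    Nat.card ↥(inter M u ⊓ centralizer ({u} : Set G)) * Nat.card {s : G // orderOf s = 2 ∧ s ∈ M} =
      Nat.card (inter M u) := by
  rw [← h.card_inverted hu huM]
  exact CfsgLib.InvTimesAlt.card_fixed_mul_inverted _ (h.inter_odd huM) (isInvol_of_orderOf hu).2
    fun a ha => inter_swap (isInvol_of_orderOf hu).2 ha

/-- The number of involutions of `M`. -/
theorem card_invol (h : Local S M) {t : G} (ht : t ∈ (S : Subgroup G)) (ht1 : t ≠ 1) :
    Nat.card {s : G // orderOf s = 2 ∧ s ∈ M} * Nat.card ↥(centralizer ({t} : Set G)) = Nat.card M := by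
  have hti : IsInvol t := ⟨ht1, h.base.sq t ht⟩
  set C := centralizer ({t} : Set G) with hC
  have key : ∀ a b : M, (a : G) * t * (a : G)⁻¹ = b * t * (b : G)⁻¹ ↔ a⁻¹ * b ∈ C.subgroupOf M := by
    intro a b
    rw [mem_subgroupOf, Subgroup.coe_mul, Subgroup.coe_inv]
    refine ⟨fun e => mem_cent_of_commute ?_, fun h1 => ?_⟩
    · calc (a : G)⁻¹ * b * t = (a : G)⁻¹ * (b * t * (b : G)⁻¹) * b := by group
        _ = (a : G)⁻¹ * (a * t * (a : G)⁻¹) * b := by rw [e]
        _ = _ := by group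
    · have h2 := commute_of_mem_cent h1
      calc (a : G) * t * (a : G)⁻¹ = a * (t * ((a : G)⁻¹ * b)) * (b : G)⁻¹ := by group
        _ = a * ((a : G)⁻¹ * b * t) * (b : G)⁻¹ := by rw [h2]
        _ = _ := by group
  let g : M → {s : G // orderOf s = 2 ∧ s ∈ M} := fun m =>
    ⟨(m : G) * t * (m : G)⁻¹, (hti.conj _).orderOf_eq, mul_mem (mul_mem m.2 (h.SM ht)) (inv_mem m.2)⟩
  let f : M ⧸ C.subgroupOf M → {s : G // orderOf s = 2 ∧ s ∈ M} := Quotient.lift g
    fun a b hab => Subtype.ext ((key a b).mpr (QuotientGroup.leftRel_apply.mp hab))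
  have hf : Function.Bijective f := by
    refine ⟨?_, fun s => ?_⟩
    · rintro ⟨a⟩ ⟨b⟩ e
      exact Quotient.sound (QuotientGroup.leftRel_apply.mpr ((key a b).mp (congrArg Subtype.val e)))
    · obtain ⟨m, hm, e⟩ := h.conj_M s.2.1 s.2.2 ht ht1
      exact ⟨QuotientGroup.mk ⟨m, hm⟩, Subtype.ext e⟩
  rw [← Nat.card_eq_of_bijective f hf, ← Subgroup.index_eq_card, mul_comm]
  exact CfsgLib.card_mul_relIndex (h.cent t ht ht1)

end Local

end CfsgLib.HallE8
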