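import Cfsg.Agent.Lib.HallE8.Final
import Cfsg.Agent.Lib.SylowCount
import Cfsg.Agent.S0205

/-!
A group of order prime to `9` with an elementary abelian Sylow `2`-subgroup of order eight whose normalizer has
order prime to `3` is solvable.
-/

set_option autoImplicit false
set_option linter.unusedSectionVars false
set_option linter.style.haveILetI false

namespace CfsgLib.HallE8

open Cfsg Subgroup CfsgLib.ZCReduction
open scoped Pointwise

universe u

theorem isSolvable_of_ext {Γ : Type u} [Group Γ] (N : Subgroup Γ) [N.Normal] (hN : Group.IsSolvable N)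
    (hQ : Group.IsSolvable (Γ ⧸ N)) : Group.IsSolvable Γ :=
  (Group.isSolvable_iff_subgroup_quotient N).mpr ⟨hN, hQ⟩

theorem isSolvable_of_odd {Γ : Type u} [Group Γ] [Finite Γ] (h : ¬ 2 ∣ Nat.card Γ) : Group.IsSolvable Γ :=
  Cfsg.Agent.S0205.result (Nat.odd_iff.mpr (Nat.two_dvd_ne_zero.mp h))

variable {G : Type u} [Group G] [Finite G]

namespace Base

variable {S : Sylow 2 G}

theorem subgroup (hb : Base S) {H : Subgroup G} (hSH : (S : Subgroup G) ≤ H) : Base (S.subtype hSH) where
  sq s hs := Subtype.ext (hb.sq _ hs)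
  card := by
    rw [Sylow.coe_subtype, Nat.card_congr (subgroupOfEquivOfLe hSH).toEquiv, hb.card]
  three h := hb.three (h.trans (by
    rw [← card_map_of_injective (K := normalizer ((S.subtype hSH : Subgroup H) : Set H)) H.subtype_injective]
    refine card_dvd_of_le ?_
    rintro _ ⟨n, hn, rfl⟩
    exact CfsgLib.Comp.mem_normalizer_of_maps fun s hs => (mem_normalizer_iff.mp hn ⟨s, hSH hs⟩).mp hs))

theorem of_conj (hb : Base S) (S' : Sylow 2 G) : Base S' := by
  haveI : Fact (Nat.Prime 2) := ⟨Nat.prime_two⟩
  obtain ⟨g, hg⟩ := MulAction.exists_smul_eq G S' S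
  have hg' : ∀ s ∈ (S' : Subgroup G), g * s * g⁻¹ ∈ (S : Subgroup G) := fun s hs => by
    rw [← hg, Sylow.coe_subgroup_smul]
    exact smul_mem_pointwise_smul s (MulAut.conj g) (S' : Subgroup G) hs
  refine ⟨fun s hs => ?_, ?_, fun h => hb.three ?_⟩
  · have h1 := hb.sq _ (hg' s hs)
    rwa [show g * s * g⁻¹ * (g * s * g⁻¹) = g * (s * s) * g⁻¹ by group, conj_eq_one_iff] at h1
  · rw [S'.card_eq_multiplicity, ← S.card_eq_multiplicity, hb.card]
  · have key : ∀ P : Sylow 2 G,
        Nat.card (normalizer ((P : Subgroup G) : Set G)) * Nat.card (Sylow 2 G) = Nat.card G := fun P => by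
      rw [Sylow.card_eq_index_normalizer P]; exact card_mul_index _
    rwa [Nat.eq_of_mul_eq_mul_right Nat.card_pos ((key S').trans (key S).symm)] at h

theorem quotient (hb : Base S) (N : Subgroup G) [N.Normal] (hN : ¬ 2 ∣ Nat.card N) :
    Base (S.mapSurjective (QuotientGroup.mk'_surjective N)) := by
  haveI : Fact (Nat.Prime 2) := ⟨Nat.prime_two⟩
  refine ⟨?_, ?_, fun h => hb.three ?_⟩
  · rintro _ ⟨s, hs, rfl⟩
    rw [← map_mul, hb.sq s hs, map_one]
  · rw [← hb.card, Sylow.coe_mapSurjective]
    refine (Nat.card_eq_of_bijective (fun s : (S : Subgroup G) =>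
      (⟨QuotientGroup.mk' N s, mem_map_of_mem _ s.2⟩ : (S : Subgroup G).map (QuotientGroup.mk' N)))
      ⟨fun a b e => ?_, fun ⟨_, s, hs, e⟩ => ⟨⟨s, hs⟩, Subtype.ext e⟩⟩).symm
    have h1 : (a : G)⁻¹ * b ∈ N := QuotientGroup.eq.mp (congrArg Subtype.val e :)
    have h2 : (a : G)⁻¹ * b = 1 := CfsgLib.PairsSylow.eq_one_of_pPrime_of_isPGroup hN S.2 h1
      (Subgroup.mul_mem _ (Subgroup.inv_mem _ a.2) b.2)
    exact Subtype.ext (inv_mul_eq_one.mp h2)
  · set T := S.mapSurjective (QuotientGroup.mk'_surjective N)
    have e := CfsgLib.comap_normalizer_sylowQuotient S N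
    have e' := map_comap_eq_self_of_surjective (QuotientGroup.mk'_surjective N)
      (normalizer ((CfsgLib.sylowQuotient S N : Subgroup (G ⧸ N)) : Set (G ⧸ N)))
    rw [e, Subgroup.map_sup, QuotientGroup.map_mk'_self, sup_bot_eq] at e'
    have h3 : 3 ∣ Nat.card ↥(normalizer ((CfsgLib.sylowQuotient S N : Subgroup (G ⧸ N)) : Set (G ⧸ N))) := h
    rw [← e'] at h3
    exact h3.trans (card_map_dvd _ _)

end Base

theorem hard (S : Sylow 2 G) (hb : Base S) (h9 : ¬ 9 ∣ Nat.card G) : Group.IsSolvable G := by
  induction hn : Nat.card G using Nat.strong_induction_on generalizing G with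
  | _ n ih =>
  subst hn
  classical
  haveI : Fact (Nat.Prime 2) := ⟨Nat.prime_two⟩
  haveI := hb.isMulCommutative
  have hsub : ∀ H : Subgroup G, H ≠ ⊤ → (S : Subgroup G) ≤ H → Group.IsSolvable H := fun H hH hSH =>
    ih _ (lt_of_le_of_ne (card_le_card_group H) fun e => hH (eq_top_of_card_eq H e)) _ (hb.subgroup hSH)
      (fun h => h9 (h.trans (card_subgroup_dvd_card H))) rfl
  by_cases hidx : ∀ H : Subgroup G, H.index ≠ 2
  · have htr := CfsgLib.E8Solv.transitive hidx S hb.card
    by_cases hN : ∀ N : Subgroup G, N.Normal → N = ⊥ ∨ N = ⊤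
    · haveI : Nontrivial G := Finite.one_lt_card_iff_nontrivial.mp (by
        have := Nat.le_of_dvd Nat.card_pos (card_subgroup_dvd_card (S : Subgroup G))
        rw [hb.card] at this; omega)
      haveI hs : IsSimpleGroup G := ⟨fun N hN' => hN N hN'⟩
      by_contra hns
      obtain ⟨M, hM⟩ := exists_local S hb hs hns hsub
      exact hM.contra h9
    · push Not at hN
      obtain ⟨N, hNn, hN0, hN1⟩ := hN
      haveI := hNn
      by_cases h2 : 2 ∣ Nat.card N
      · obtain ⟨s, hs⟩ := exists_prime_orderOf_dvd_card' (G := ↥N) 2 h2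
        rw [← Subgroup.orderOf_coe] at hs
        obtain ⟨m, hm⟩ := exists_conj_into_sylow S
          (IsPGroup.of_card (n := 1) (G := ↥(zpowers (s : G))) (by rw [Nat.card_zpowers, hs, pow_one]))
        have hSN : (S : Subgroup G) ≤ N := fun t ht => by
          by_cases ht1 : t = 1
          · rw [ht1]; exact one_mem N
          obtain ⟨k, -, e⟩ := htr _ (hm _ (mem_zpowers _)) t ht ((isInvol_of_orderOf hs).conj m).1 ht1
          rw [← e]
          exact hNn.conj_mem _ (hNn.conj_mem _ s.2 m) k
        refine isSolvable_of_ext N (hsub N hN1 hSN) (isSolvable_of_odd ?_)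
        rw [← Subgroup.index_eq_card]
        exact fun hd => S.not_dvd_index (hd.trans (index_dvd_of_le hSN))
      · refine isSolvable_of_ext N (isSolvable_of_odd h2) ?_
        refine ih _ ?_ _ (hb.quotient N h2) (fun h => h9 (h.trans (card_quotient_dvd_card N))) rfl
        rw [← Subgroup.index_eq_card, ← card_mul_index N]
        exact lt_mul_left (Nat.pos_of_ne_zero index_ne_zero_of_finite) (by
          rcases Nat.lt_or_ge 1 (Nat.card N) with h | h
          · exact h
          · exact absurd (eq_bot_of_card_le N h) hN0)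
  · push Not at hidx
    obtain ⟨H, hH⟩ := hidx
    haveI : H.Normal := normal_of_index_eq_two hH
    refine isSolvable_of_ext H ?_ ?_
    · have hcH : Nat.card H * 2 = Nat.card G := hH ▸ card_mul_index H
      obtain ⟨V⟩ := (inferInstance : Nonempty (Sylow 2 H))
      have hVc : Nat.card (V : Subgroup H) = 4 := by
        have h1 := S.card_eq_multiplicity
        rw [hb.card, ← hcH, Nat.factorization_mul Nat.card_pos.ne' (by norm_num), Finsupp.add_apply,
          Nat.prime_two.factorization_self, pow_succ] at h1
        rw [V.card_eq_multiplicity]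
        omega
      have hcomm : ∀ a b : (V : Subgroup H), a * b = b * a := IsPGroup.commutative_of_card_eq_prime_sq (p := 2)
        (by rw [hVc]; norm_num)
      set V' := (V : Subgroup H).map H.subtype with hV'
      have hV'c : Nat.card V' = 4 := by rw [hV', card_map_of_injective H.subtype_injective, hVc]
      obtain ⟨S', hS'⟩ := (V.2.map H.subtype).exists_le_sylow
      have hb' := hb.of_conj S'
      set C := centralizer (V' : Set G) with hC
      have hS'C : (S' : Subgroup G) ≤ C := fun s hs =>
        mem_centralizer_iff.mpr fun v hv => hb'.comm (hS' hv) hs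
      have key : ∀ a ∈ normalizer ((V : Subgroup H) : Set H), a ∈ centralizer ((V : Subgroup H) : Set H) := by
        intro a ha
        have haV : (a : G) ∈ normalizer (V' : Set G) := CfsgLib.Comp.mem_normalizer_of_maps (by
          rintro _ ⟨v, hv, rfl⟩
          exact ⟨a * v * a⁻¹, (mem_normalizer_iff.mp ha v).mp hv, rfl⟩)
        -- correct `a` by an element of `C` into `N(S')`
        have haC : ∀ c ∈ C, (a : G) * c * (a : G)⁻¹ ∈ C := fun c hc => mem_centralizer_iff.mpr fun v hv => by
          have hv' : (a : G)⁻¹ * v * a ∈ V' := by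
            simpa using (mem_normalizer_iff.mp (inv_mem haV) v).mp hv
          calc v * ((a : G) * c * (a : G)⁻¹) = a * ((a : G)⁻¹ * v * a * c) * (a : G)⁻¹ := by group
            _ = a * (c * ((a : G)⁻¹ * v * a)) * (a : G)⁻¹ := by rw [mem_centralizer_iff.mp hc _ hv']
            _ = _ := by group
        have hle : (((a : G) • S' : Sylow 2 G) : Subgroup G) ≤ C := by
          intro x hx
          rw [Sylow.coe_subgroup_smul] at hx
          obtain ⟨y, hy, rfl⟩ := hx
          exact haC y (hS'C hy)
        obtain ⟨c, hc⟩ := MulAction.exists_smul_eq C (((a : G) • S' : Sylow 2 G).subtype hle) (S'.subtype hS'C)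
        have hcn : (c : G) * a ∈ normalizer ((S' : Subgroup G) : Set G) := by
          refine Sylow.smul_eq_iff_mem_normalizer.mp ?_
          rw [mul_smul]
          have hle' : ((((c : G) • (a : G) • S') : Sylow 2 G) : Subgroup G) ≤ C := by
            intro x hx
            rw [Sylow.coe_subgroup_smul] at hx
            obtain ⟨y, hy, rfl⟩ := hx
            exact mul_mem (mul_mem c.2 (hle hy)) (inv_mem c.2)
          apply Sylow.subtype_injective (N := C) (hP := hle') (hQ := hS'C)
          rw [← hc, Sylow.smul_subtype]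
          rfl
        set w := (c : G) * a with hw
        have hwV : w ∈ normalizer (V' : Set G) := mul_mem (centralizer_le_normalizer _ c.2) haV
        -- its action on `V'` is trivial
        let σ : Equiv.Perm V' := (Subgroup.normalizerMonoidHom V' ⟨w, hwV⟩).toEquiv
        have hσpow : ∀ k : ℕ, ∀ v : V', ((σ ^ k) v : G) = w ^ k * v * (w ^ k)⁻¹ := by
          intro k
          induction k with
          | zero => intro v; simp
          | succ k ihk =>
            intro v
            rw [pow_succ', Equiv.Perm.mul_apply]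
            show w * ((σ ^ k) v : G) * w⁻¹ = _
            rw [ihk, pow_succ' w k]; group
        obtain ⟨k, j, hj, hkj⟩ := Nat.exists_eq_two_pow_mul_odd (orderOf_pos w).ne'
        have h2 : w ^ j ∈ (S' : Subgroup G) := by
          refine CfsgLib.E8Solv.mem_sylow_of_normalizes S' ⟨k, ?_⟩ (pow_mem hcn j)
          rw [orderOf_pow_of_dvd hj.pos.ne' (hkj ▸ dvd_mul_left j _), hkj, Nat.mul_div_cancel _ hj.pos]
        have hσj : σ ^ j = 1 := Equiv.ext fun v => Subtype.ext (by
          rw [hσpow, Equiv.Perm.one_apply, hb'.comm h2 (hS' v.2), mul_inv_cancel_right])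
        have hσo : σ ^ orderOf w = 1 := Equiv.ext fun v => Subtype.ext (by
          rw [hσpow, pow_orderOf_eq_one]; simp)
        have hσ1 : orderOf σ = 1 := by
          have h24 : orderOf σ ∣ 24 := by
            have := orderOf_dvd_natCard σ
            rwa [Nat.card_perm, hV'c] at this
          have h8 : Nat.Coprime (orderOf σ) 8 :=
            (Nat.coprime_two_right.mpr (Odd.of_dvd_nat hj (orderOf_dvd_of_pow_eq_one hσj))).pow_right 3
          have h3 : Nat.Coprime (orderOf σ) 3 := (((Fact.mk (by norm_num : Nat.Prime 3)).out.coprime_iff_not_dvd).mpr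
            fun hd => hb'.three (hd.trans ((orderOf_dvd_of_pow_eq_one hσo).trans
              (Subgroup.orderOf_dvd_natCard _ hcn)))).symm
          exact (Nat.Coprime.mul_right h8 h3).eq_one_of_dvd h24
        refine mem_centralizer_iff.mpr fun v hv => Subtype.ext ?_
        have e := hσpow 1 ⟨_, mem_map_of_mem H.subtype hv⟩
        rw [pow_one, orderOf_eq_one_iff.mp hσ1, pow_one, Equiv.Perm.one_apply] at e
        -- `e : v = c a v a⁻¹ c⁻¹`
        have hav : (a : G) * v * (a : G)⁻¹ ∈ V' := (mem_normalizer_iff.mp haV _).mp (mem_map_of_mem H.subtype hv)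
        have e2 := mem_centralizer_iff.mp c.2 _ hav
        have e3 : (v : G) = a * v * (a : G)⁻¹ := by
          calc (v : G) = w * v * w⁻¹ := e
            _ = c * (a * v * (a : G)⁻¹) * (c : G)⁻¹ := by rw [hw]; group
            _ = _ := by rw [← e2]; group
        show (v : G) * a = a * v
        conv_lhs => rw [e3]
        group
      set K := (MonoidHom.transferSylow V key).ker
      have hK := MonoidHom.ker_transferSylow_isComplement' V key
      refine isSolvable_of_ext K (isSolvable_of_odd ?_) ?_
      · intro hd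
        have h1 := hK.card_mul_card
        have h2 := V.card_eq_multiplicity
        have h3 : 2 ^ ((Nat.card H).factorization 2 + 1) ∣ Nat.card H := by
          have e := Nat.mul_dvd_mul_right hd (Nat.card (V : Subgroup H))
          rw [h1, h2] at e
          rwa [pow_succ']
        exact Nat.pow_succ_factorization_not_dvd Nat.card_pos.ne' Nat.prime_two h3
      · have hp : IsPGroup 2 (H ⧸ K) := IsPGroup.of_card (n := 2) (by
          rw [← Subgroup.index_eq_card, hK.symm.index_eq_card, hVc]; norm_num)
        haveI := hp.isNilpotent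
        infer_instance
    · haveI : IsCyclic (G ⧸ H) := isCyclic_of_prime_card (p := 2) (by rw [← Subgroup.index_eq_card, hH])
      exact Group.isSolvable_of_comm fun a b => (IsCyclic.commGroup (α := G ⧸ H)).mul_comm a b

end CfsgLib.HallE8
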