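import Cfsg.Agent.Lib.ZCReduction.Basic
import Cfsg.Agent.Lib.PairSol.Basic
import Cfsg.Agent.Lib.PairsSylow.Main
import Cfsg.Agent.Lib.PLocal.SolvableSeparable
import Cfsg.Agent.Lib.E8Solv.Local
import Cfsg.Agent.Lib.StrongFusion.LocalFree
import Cfsg.Agent.Lib.Quadratic.Consequences

/-!
Groups with an elementary abelian Sylow `2`-subgroup `S` of order eight whose normalizer has order prime to three:
elements of `N(S)` fixing a point, factorization of solvable overgroups, no sections `Qd(p)`.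
-/

set_option autoImplicit false
set_option linter.unusedSectionVars false
set_option linter.style.haveILetI false

namespace CfsgLib.HallE8

open Cfsg Subgroup

universe u

variable {G : Type u} [Group G] [Finite G]

/-- The standing hypotheses on `S`. -/
structure Base (S : Sylow 2 G) : Prop where
  sq : ∀ s ∈ (S : Subgroup G), s * s = 1
  card : Nat.card (S : Subgroup G) = 8
  three : ¬ 3 ∣ Nat.card (normalizer ((S : Subgroup G) : Set G))

/-- A group with abelian Sylow `2`-subgroups has no section `Qd(p)`, `p` odd. -/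
theorem free_of_abelian {Γ : Type u} [Group Γ] [Finite Γ] (T : Sylow 2 Γ) (hT : ∀ a ∈ (T : Subgroup Γ),
    ∀ b ∈ (T : Subgroup Γ), a * b = b * a) {p : ℕ} [Fact p.Prime] (hp : p ≠ 2) : ¬ Involves (Cfsg.qd p) Γ := by
  haveI : Fact (Nat.Prime 2) := ⟨Nat.prime_two⟩
  intro h
  obtain ⟨K, R, hR, ⟨e⟩⟩ := CfsgLib.StrongFusion.involves_sl2_of_involves_qd h
  haveI := hR
  let T' : Sylow 2 (⊤ : Subgroup Γ) := T.subtype le_top
  exact CfsgLib.Quadratic.no_sl2_of_isMulCommutative hp T'
    ⟨⟨fun a b => Subtype.ext (Subtype.ext (hT _ a.2 _ b.2))⟩⟩ le_top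
    (e.toMonoidHom.comp (QuotientGroup.mk' (R.subgroupOf K)))
    (e.surjective.comp (QuotientGroup.mk'_surjective _))

namespace Base

variable {S : Sylow 2 G}

theorem comm (h : Base S) {a b : G} (ha : a ∈ (S : Subgroup G)) (hb : b ∈ (S : Subgroup G)) : a * b = b * a := by
  have hab := h.sq _ (mul_mem ha hb)
  calc a * b = (a * b)⁻¹ := (inv_eq_of_mul_eq_one_left hab).symm
    _ = b⁻¹ * a⁻¹ := mul_inv_rev _ _
    _ = b * a := by rw [inv_eq_of_mul_eq_one_left (h.sq b hb), inv_eq_of_mul_eq_one_left (h.sq a ha)]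

theorem isMulCommutative (h : Base S) : IsMulCommutative (S : Subgroup G) :=
  ⟨⟨fun a b => Subtype.ext (h.comm a.2 b.2)⟩⟩

theorem invol (h : Base S) {t : G} (ht : t ∈ (S : Subgroup G)) (ht1 : t ≠ 1) : orderOf t = 2 :=
  orderOf_eq_prime (by rw [pow_two]; exact h.sq t ht) ht1

theorem not_cyclic (h : Base S) : ¬ IsCyclic (S : Subgroup G) := by
  intro hc
  obtain ⟨g, hg⟩ := hc.exists_generator
  have h2 : orderOf g ≤ 2 := orderOf_le_of_pow_eq_one two_pos (Subtype.ext (by
    rw [Subgroup.coe_pow, pow_two]; exact h.sq _ g.2))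
  rw [orderOf_eq_card_of_forall_mem_zpowers hg, h.card] at h2
  omega

theorem le_centralizer (h : Base S) {t : G} (ht : t ∈ (S : Subgroup G)) :
    (S : Subgroup G) ≤ centralizer ({t} : Set G) := fun _ hs =>
  mem_centralizer_singleton_iff.mpr (h.comm hs ht)

/-- An element of odd order normalizing `S` and fixing an involution of `S` centralizes `S`. -/
theorem cent_of_fix (h : Base S) {y t : G} (hy : y ∈ normalizer ((S : Subgroup G) : Set G))
    (hodd : ¬ 2 ∣ orderOf y) (ht : t ∈ (S : Subgroup G)) (ht1 : t ≠ 1) (hyt : y * t = t * y)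
    {s : G} (hs : s ∈ (S : Subgroup G)) : y * s = s * y := by
  classical
  by_contra hne
  set f : G → G := fun w => y * w * y⁻¹ with hf
  have hfk : ∀ (k : ℕ) (w : G), f^[k] w = y ^ k * w * (y ^ k)⁻¹ := by
    intro k
    induction k with
    | zero => intro w; simp
    | succ k ih => intro w; rw [Function.iterate_succ_apply', ih, hf, pow_succ']; group
  set d := Function.minimalPeriod f s with hd
  have hper : Function.IsPeriodicPt f (orderOf y) s := by
    show f^[orderOf y] s = s
    rw [hfk, pow_orderOf_eq_one]; group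
  have hdvd : d ∣ orderOf y := hper.minimalPeriod_dvd
  have hd0 : 0 < d := hper.minimalPeriod_pos (orderOf_pos y)
  have h3 : ¬ 3 ∣ d := fun e => h.three ((e.trans hdvd).trans (Subgroup.orderOf_dvd_natCard _ hy))
  have hd1 : d ≠ 1 := fun e => hne (mul_inv_eq_iff_eq_mul.mp (by
    have := Function.iterate_minimalPeriod (f := f) (x := s)
    rw [← hd, e, Function.iterate_one] at this
    exact this))
  have hd2 : ¬ 2 ∣ d := fun e => hodd (e.trans hdvd)
  have hS : ∀ (k : ℕ), f^[k] s ∈ (S : Subgroup G) := fun k => by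
    rw [hfk]; exact (mem_normalizer_iff.mp (pow_mem hy k) s).mp hs
  have hft : ∀ (k : ℕ), f^[k] t = t := fun k => by
    rw [hfk, ((show Commute y t from hyt).pow_left k).eq, mul_inv_cancel_right]
  have hfinj : Function.Injective f := fun a b e => mul_left_cancel (mul_right_cancel e)
  have hfmul : ∀ (k : ℕ) (a b : G), f^[k] (a * b) = f^[k] a * f^[k] b := fun k a b => by
    simp only [hfk]; group
  have hf1 : ∀ (k : ℕ), f^[k] (1 : G) = 1 := fun k => by simp [hfk]
  have htt := h.sq t ht
  have hs1 : s ≠ 1 := fun e => hne (by rw [e, mul_one, one_mul])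
  have hst : s ≠ t := fun e => hne (e ▸ hyt)
  let g : Fin d × Fin 2 → {w : (S : Subgroup G) // (w : G) ∉ ({1, t} : Set G)} := fun i =>
    ⟨⟨t ^ (i.2 : ℕ) * f^[i.1] s, mul_mem (pow_mem ht _) (hS _)⟩, by
      show t ^ (i.2 : ℕ) * f^[i.1] s ∉ ({1, t} : Set G)
      have key : ∀ c ∈ ({1, t} : Set G), f^[i.1] s ≠ c := by
        rintro c (rfl | rfl) e
        · exact hs1 ((hfinj.iterate _) (e.trans (hf1 _).symm))
        · exact hst ((hfinj.iterate _) (e.trans (hft _).symm))
      rcases Nat.lt_succ_iff.mp i.2.2 |> Nat.le_one_iff_eq_zero_or_eq_one.mp with e | e <;> rw [e]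
      · rw [pow_zero, one_mul]
        exact fun hm => key _ hm rfl
      · rw [pow_one]
        rintro (e' | e')
        · exact key t (Or.inr rfl) (by rw [eq_inv_of_mul_eq_one_right e', inv_eq_of_mul_eq_one_left htt])
        · exact key 1 (Or.inl rfl) (mul_eq_left.mp e')⟩
  have hginj : Function.Injective g := by
    rintro ⟨i, a⟩ ⟨j, b⟩ e
    have e' : t ^ (a : ℕ) * f^[i] s = t ^ (b : ℕ) * f^[j] s := congrArg (fun w => ((w.1 : (S : Subgroup G)) : G)) e
    have hfd : f^[d] s = s := Function.iterate_minimalPeriod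
    have same : ∀ i j : Fin d, f^[i] s = f^[j] s → i = j := fun i j he =>
      Fin.ext (Function.iterate_injOn_Iio_minimalPeriod (f := f) (x := s) i.2 j.2 he)
    have diff : ∀ i j : Fin d, t * f^[i] s ≠ f^[j] s := by
      intro i j he
      have h1 : f^[(j : ℕ) + (d - i)] s = t * s := by
        have h2 := congrArg (f^[d - i]) he
        rw [hfmul, hft, ← Function.iterate_add_apply, ← Function.iterate_add_apply,
          show d - (i : ℕ) + i = d by omega, hfd] at h2
        rw [add_comm, ← h2]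
      set k := (j : ℕ) + (d - i)
      have h3 : f^[k + k] s = s := by
        rw [Function.iterate_add_apply, h1, hfmul, hft, h1, ← mul_assoc, htt, one_mul]
      have h4 : d ∣ 2 * k := by rw [two_mul]; exact Function.IsPeriodicPt.minimalPeriod_dvd h3
      have h5 : d ∣ k := (Nat.Coprime.dvd_of_dvd_mul_left
        ((Nat.prime_two.coprime_iff_not_dvd.mpr hd2).symm) h4)
      have h6 : f^[k] s = s := (Function.isPeriodicPt_minimalPeriod f s).trans_dvd h5
      exact ht1 (mul_eq_right.mp (h1.symm.trans h6))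
    rcases Nat.lt_succ_iff.mp a.2 |> Nat.le_one_iff_eq_zero_or_eq_one.mp with ea | ea <;>
      rcases Nat.lt_succ_iff.mp b.2 |> Nat.le_one_iff_eq_zero_or_eq_one.mp with eb | eb <;>
      rw [ea, eb] at e' <;> simp only [pow_zero, pow_one, one_mul] at e'
    · exact Prod.ext (same _ _ e') (Fin.ext (ea.trans eb.symm))
    · exact absurd e'.symm (diff j i)
    · exact absurd e' (diff i j)
    · exact Prod.ext (same _ _ (mul_left_cancel e')) (Fin.ext (ea.trans eb.symm))
  have hle := Nat.card_le_card_of_injective g hginj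
  have hsix : Nat.card {w : (S : Subgroup G) // (w : G) ∉ ({1, t} : Set G)} = 6 := by
    have e1 : ({w : (S : Subgroup G) | (w : G) ∉ ({1, t} : Set G)}) =
        ({1, ⟨t, ht⟩} : Set (S : Subgroup G))ᶜ := by
      ext w
      simp only [Set.mem_setOf_eq, Set.mem_compl_iff, Set.mem_insert_iff, Set.mem_singleton_iff,
        ← OneMemClass.coe_eq_one]
      exact not_congr (or_congr_right ⟨fun e => Subtype.ext e, fun e => congrArg Subtype.val e⟩)
    rw [← Set.coe_setOf, Nat.card_coe_set_eq, e1, Set.ncard_compl, h.card,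
      Set.ncard_pair (fun e => ht1 (congrArg Subtype.val e).symm)]
  rw [hsix, Nat.card_prod, Nat.card_eq_fintype_card, Fintype.card_fin, Nat.card_eq_fintype_card,
    Fintype.card_fin] at hle
  omega

/-- A subgroup of `N(S)` centralizing an involution of `S` centralizes `S`. -/
theorem mem_cent_S (h : Base S) {y t : G} (hy : y ∈ normalizer ((S : Subgroup G) : Set G))
    (ht : t ∈ (S : Subgroup G)) (ht1 : t ≠ 1) (hyt : y * t = t * y) :
    y ∈ centralizer ((S : Subgroup G) : Set G) := by
  haveI : Fact (Nat.Prime 2) := ⟨Nat.prime_two⟩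
  obtain ⟨k, m, hm, hkm⟩ := Nat.exists_eq_two_pow_mul_odd (orderOf_pos y).ne'
  have h2 : y ^ m ∈ (S : Subgroup G) := by
    refine CfsgLib.E8Solv.mem_sylow_of_normalizes S ⟨k, ?_⟩ (pow_mem hy m)
    rw [orderOf_pow_of_dvd hm.pos.ne' (hkm ▸ dvd_mul_left m _), hkm, Nat.mul_div_cancel _ hm.pos]
  have hsq : y ^ (2 * m) = 1 := by rw [two_mul, pow_add, h.sq _ h2]
  have h3 : ∀ s ∈ (S : Subgroup G), y ^ 2 * s = s * y ^ 2 := fun s hs => by
    refine h.cent_of_fix (pow_mem hy 2) ?_ ht ht1 ((show Commute y t from hyt).pow_left 2).eq hs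
    intro hd
    have h4 : orderOf (y ^ 2) ∣ m := orderOf_dvd_of_pow_eq_one (by rw [← pow_mul, hsq])
    exact (Nat.not_even_iff_odd.mpr hm) (even_iff_two_dvd.mpr (hd.trans h4))
  refine mem_centralizer_iff.mpr fun s hs => ?_
  obtain ⟨j, rfl⟩ := hm
  have c1 : Commute (y ^ 2) s := h3 s hs
  have c2 : Commute (y ^ (2 * j + 1)) s := h.comm h2 hs
  have c3 : y = ((y ^ 2) ^ j)⁻¹ * y ^ (2 * j + 1) := by rw [← pow_mul, pow_succ, inv_mul_cancel_left]
  rw [c3]
  exact ((c1.pow_left j).inv_left.mul_left c2).eq.symm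

/-- A solvable overgroup of `S` is its core times the normalizer of `S`. -/
theorem exists_decomp (h : Base S) {H : Subgroup G} (hH : Group.IsSolvable H) (hSH : (S : Subgroup G) ≤ H)
    {g : G} (hg : g ∈ H) : ∃ o ∈ (pPrimeCore 2 H).map H.subtype, ∃ n ∈ H,
      n ∈ normalizer ((S : Subgroup G) : Set G) ∧ g = o * n := by
  haveI : Fact (Nat.Prime 2) := ⟨Nat.prime_two⟩
  haveI := hH
  have hsolv : IsPSolvable 2 H := CfsgLib.PLocal.isPSolvable_of_isSolvable _ H rfl inferInstance
  set T : Sylow 2 H := S.subtype hSH with hT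
  have hTle : (T : Subgroup H) ≤ pPrimePCore 2 H := fun a ha => by
    refine CfsgLib.PairsSylow.mem_pCore_quotient hsolv T fun b hb => ?_
    exact mem_centralizer_singleton_iff.mpr (Subtype.ext (h.comm hb ha))
  obtain ⟨o, ho, n, hn, e⟩ := CfsgLib.PairSol.core_frattini T ⟨g, hg⟩
  rw [inf_eq_left.mpr hTle] at hn
  refine ⟨o, ⟨o, ho, rfl⟩, n, n.2, CfsgLib.Comp.mem_normalizer_of_maps ?_, congrArg Subtype.val e⟩
  intro s hs
  exact (mem_normalizer_iff.mp hn ⟨s, hSH hs⟩).mp hs

end Base

end CfsgLib.HallE8
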