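import Cfsg.Agent.Lib.HallE8.Core
import Cfsg.Agent.Lib.MinSimpleOdd.Basic
import Cfsg.Agent.Lib.StrongFusion.Functors
import Cfsg.Agent.Lib.StrongFusion.PStable
import Cfsg.Agent.Lib.BG.PCase

/-!
For every odd prime `p` dividing the number of involutions of `M` the centre of the Thompson subgroup of a Sylow
`p`-subgroup would control fusion inside `M`; hence `M` has exactly seven involutions.
-/

set_option autoImplicit false
set_option linter.unusedSectionVars false
set_option linter.style.haveILetI false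

namespace CfsgLib.HallE8

open Cfsg Subgroup CfsgLib.ZCReduction

universe u

variable {G : Type u} [Group G] [Finite G]

namespace Local

variable {S : Sylow 2 G} {M : Subgroup G}

theorem card_M_dvd (h : Local S M) {R : Subgroup M} [R.Normal]
    (hSR : ∀ s ∈ (S : Subgroup G), ∀ hs : s ∈ M, (⟨s, hs⟩ : M) ∈ R) :
    Nat.card M ∣ Nat.card R * Nat.card ↥(normalizer ((S : Subgroup G) : Set G)) := by
  haveI : Fact (Nat.Prime 2) := ⟨Nat.prime_two⟩
  set T : Sylow 2 M := S.subtype h.SM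
  have hTR : (T : Subgroup M) ≤ R := fun a ha => hSR a ha a.2
  set TR : Sylow 2 R := T.subtype hTR
  have hfr := TR.normalizer_sup_eq_top
  have e : (TR : Subgroup R).map R.subtype = (T : Subgroup M) := Subgroup.map_subgroupOf_eq_of_le hTR
  rw [e] at hfr
  have h1 := CfsgLib.card_sup_dvd_mul (normalizer ((T : Subgroup M) : Set M)) R
  rw [hfr, card_top, mul_comm] at h1
  refine h1.trans (Nat.mul_dvd_mul_left _ ?_)
  rw [← card_map_of_injective (K := normalizer ((T : Subgroup M) : Set M)) M.subtype_injective]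
  refine card_dvd_of_le ?_
  rintro _ ⟨n, hn, rfl⟩
  refine CfsgLib.Comp.mem_normalizer_of_maps fun s hs => ?_
  exact (mem_normalizer_iff.mp hn ⟨s, h.SM hs⟩).mp hs

/-- If the `p'`-core of `M` has even order then `i` is seven times a number prime to `p`. -/
theorem fac_le_of_even (h : Local S M) {p : ℕ} [Fact p.Prime] (hev : 2 ∣ Nat.card ↥(pPrimeCore p M)) :
    (Nat.card {s : G // orderOf s = 2 ∧ s ∈ M}).factorization p ≤ (7 : ℕ).factorization p := by
  set R := pPrimeCore p M with hR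
  obtain ⟨r, hr⟩ := exists_prime_orderOf_dvd_card' (G := ↥R) 2 hev
  have hro : orderOf ((r : M) : G) = 2 := by rw [Subgroup.orderOf_coe, Subgroup.orderOf_coe]; exact hr
  have hSR : ∀ s ∈ (S : Subgroup G), ∀ hs : s ∈ M, (⟨s, hs⟩ : M) ∈ R := by
    intro s hs hsM
    by_cases e : s = 1
    · subst e; exact one_mem R
    obtain ⟨m, hm, e'⟩ := h.conj_M hro (r : M).2 hs e
    have h2 := (inferInstance : R.Normal).conj_mem _ r.2 (⟨m, hm⟩⁻¹ : M)
    have e2 : (⟨m, hm⟩⁻¹ : M) * (r : M) * (⟨m, hm⟩⁻¹ : M)⁻¹ = ⟨s, hsM⟩ := Subtype.ext (by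
      show m⁻¹ * ((r : M) : G) * m⁻¹⁻¹ = s
      rw [← e']; group)
    rwa [e2] at h2
  obtain ⟨t, ht, ht1⟩ := h.exists_invol
  set i := Nat.card {s : G // orderOf s = 2 ∧ s ∈ M}
  have hCS : centralizer ((S : Subgroup G) : Set G) ≤ centralizer ({t} : Set G) :=
    centralizer_le (Set.singleton_subset_iff.mpr ht)
  have h1 : i * Nat.card ↥(centralizer ({t} : Set G)) ∣ (7 * Nat.card R) * Nat.card ↥(centralizer ({t} : Set G)) := by
    rw [h.card_invol ht ht1]
    refine (h.card_M_dvd hSR).trans ?_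
    rw [h.card_normalizer, mul_left_comm, mul_assoc]
    exact Nat.mul_dvd_mul_left _ (Nat.mul_dvd_mul_left _ (card_dvd_of_le hCS))
  have h2 : i ∣ 7 * Nat.card R := Nat.dvd_of_mul_dvd_mul_right Nat.card_pos h1
  have h7 : (7 * Nat.card R).factorization p = (7 : ℕ).factorization p := by
    rw [Nat.factorization_mul (by norm_num) Nat.card_pos.ne', Finsupp.add_apply,
      Nat.factorization_eq_zero_of_not_dvd (CfsgLib.not_dvd_card_pPrimeCore (Fact.out : p.Prime)), add_zero]
  haveI : Nonempty {s : G // orderOf s = 2 ∧ s ∈ M} := ⟨⟨t, h.base.invol ht ht1, h.SM ht⟩⟩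
  rw [← h7]
  exact (Nat.factorization_le_iff_dvd Nat.card_pos.ne' (by have := Nat.card_pos (α := ↥R); positivity)).mpr h2 p

/-- If the `p'`-core of `M` has odd order, the normalizer of `Z(J(P))` lies in `M`. -/
theorem normalizer_zj_le (h : Local S M) {p : ℕ} [Fact p.Prime] (hp : p ≠ 2)
    (hodd : ¬ 2 ∣ Nat.card ↥(pPrimeCore p M)) (P : Sylow p M) (hP : (P : Subgroup M) ≠ ⊥) :
    normalizer (ZJ.zj 0 ((P : Subgroup M).map M.subtype) : Set G) ≤ M := by
  haveI : Fact (Nat.Prime 2) := ⟨Nat.prime_two⟩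
  haveI := h.solv
  set R := pPrimeCore p M
  set T : Sylow 2 M := S.subtype h.SM
  have hfree : ¬ Involves (Cfsg.qd p) (M ⧸ R) := by
    refine free_of_abelian (T.mapSurjective (QuotientGroup.mk'_surjective R)) ?_ hp
    rintro _ ⟨a, ha, rfl⟩ _ ⟨b, hb, rfl⟩
    rw [← map_mul, ← map_mul]
    exact congrArg _ (Subtype.ext (h.base.comm ha hb))
  have hst := Quadratic.quadStable_of_isNormalizerPStable (Quadratic.isNormalizerPStable_of_free hp hfree)
  have h1 := StrongFusion.sup_normalizer_zj_of_closed hp (Or.inl rfl)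
    (CfsgLib.MinSimpleOdd.isPConstrained_of_solvable p) hst P
    (Q := (P : Subgroup M)) ⟨le_rfl, fun _ _ _ hg => hg⟩
  set N := normalizer (ZJ.zj 0 (P : Subgroup M) : Set M)
  have h2 := CfsgLib.card_sup_dvd_mul N R
  rw [sup_comm, h1, card_top] at h2
  have h8 : 2 ^ 3 ∣ Nat.card N := by
    refine Nat.Coprime.dvd_of_dvd_mul_right ?_ ((show 2 ^ 3 ∣ Nat.card M from
      (by rw [h.base.card]; norm_num : 2 ^ 3 ∣ Nat.card (S : Subgroup G)).trans (card_dvd_of_le h.SM)).trans h2)
    exact Nat.Coprime.pow_left 3 (Nat.prime_two.coprime_iff_not_dvd.mpr hodd)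
  obtain ⟨U, hU⟩ := Sylow.exists_subgroup_card_pow_prime (G := ↥N) 2 h8
  set U' := (U.map N.subtype).map M.subtype with hU'
  have hUc : Nat.card U' = 8 := by
    rw [hU', card_map_of_injective M.subtype_injective, card_map_of_injective N.subtype_injective, hU]; norm_num
  have hUp : IsPGroup 2 (U.map N.subtype : Subgroup M) := IsPGroup.of_card (n := 3) (by
    rw [card_map_of_injective N.subtype_injective, hU])
  obtain ⟨m, hm⟩ := exists_conj_into_sylow T hUp
  have hmap : U'.map (MulAut.conj (m : G)).toMonoidHom = (S : Subgroup G) := by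
    refine eq_of_le_of_card_ge ?_ (by
      rw [card_map_of_injective (MulEquiv.injective (MulAut.conj (m : G))), hUc, h.base.card])
    rintro _ ⟨_, ⟨w, hw, rfl⟩, rfl⟩
    exact hm w hw
  set Z := ZJ.zj 0 ((P : Subgroup M).map M.subtype) with hZ
  have hZ0 : Z ≠ ⊥ := ZJ.zj_ne_bot (p := p) (Or.inl rfl) (P.2.map _) fun e =>
    hP ((map_eq_bot_iff_of_injective _ M.subtype_injective).mp e)
  have hZM : Z ≤ M := (ZJ.zj_le 0 _).trans (map_subtype_le _)
  have hZtop : Z ≠ ⊤ := fun e => h.ne_top (top_le_iff.mp (e ▸ hZM))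
  refine h.uniq_conj (normalizer_ne_top h.simple hZ0 hZtop) (inv_mem m.2) fun s hs => ?_
  obtain ⟨w, hw, rfl⟩ := hmap.ge hs
  show (m : G)⁻¹ * ((m : G) * w * (m : G)⁻¹) * (m : G)⁻¹⁻¹ ∈ _
  rw [show (m : G)⁻¹ * ((m : G) * w * (m : G)⁻¹) * (m : G)⁻¹⁻¹ = w by group]
  obtain ⟨w', ⟨w'', -, rfl⟩, rfl⟩ := hw
  rw [hZ, ZJ.zj_map 0 M.subtype_injective]
  exact le_normalizer_map M.subtype ⟨_, w''.2, rfl⟩

theorem fac_le (h : Local S M) {p : ℕ} [Fact p.Prime] :
    (Nat.card {s : G // orderOf s = 2 ∧ s ∈ M}).factorization p ≤ (7 : ℕ).factorization p := by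
  haveI : Fact (Nat.Prime 2) := ⟨Nat.prime_two⟩
  have hp0 : p.Prime := Fact.out
  set i := Nat.card {s : G // orderOf s = 2 ∧ s ∈ M} with hi
  obtain ⟨t₀, ht₀, ht₀1⟩ := h.exists_invol
  have hX : ∀ {t : G}, Odd (Nat.card ↥(core M ⊓ centralizer ({t} : Set G))) :=
    fun {t} => Odd.of_dvd_nat core_odd (card_dvd_of_le inf_le_left)
  by_cases hp : p = 2
  · subst hp
    have h1 := h.invol_count ht₀ ht₀1
    have h2 : Odd (i * Nat.card ↥(core M ⊓ centralizer ({t₀} : Set G))) :=
      h1 ▸ (by decide : Odd 7).mul core_odd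
    rw [Nat.factorization_eq_zero_of_not_dvd fun hd =>
      Nat.not_even_iff_odd.mpr (Nat.odd_mul.mp h2).1 (even_iff_two_dvd.mpr hd)]
    exact Nat.zero_le _
  by_cases hev : 2 ∣ Nat.card ↥(pPrimeCore p M)
  · exact h.fac_le_of_even hev
  by_contra hlt
  push Not at hlt
  -- an involution outside `M`
  obtain ⟨g, hg⟩ : ∃ g, g ∉ M := by
    by_contra hc
    push Not at hc
    exact h.ne_top (top_le_iff.mp fun g _ => hc g)
  obtain ⟨u, hu, huM, -⟩ := h.exists_swap hg
  set D := inter M u with hD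
  have huu := (isInvol_of_orderOf hu).2
  have hui : u⁻¹ = u := inv_eq_of_mul_eq_one_left huu
  have hDodd := h.inter_odd huM
  have hDn : zpowers u ≤ normalizer (D : Set G) := zpowers_le.mpr (CfsgLib.Comp.mem_normalizer_of_maps fun a ha => by
    rw [hui]; exact inter_swap huu ha)
  have hup : IsPGroup 2 (zpowers u) := IsPGroup.of_card (n := 1) (by rw [Nat.card_zpowers, hu, pow_one])
  obtain ⟨Q₁, hQ₁⟩ := CfsgLib.coprime_exists_invariant_sylow hDn (by
    rw [Nat.card_zpowers, hu]; exact Nat.coprime_two_left.mpr hDodd) (Or.inl (haveI := hup.isNilpotent; inferInstance)) p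
  set Q := (Q₁ : Subgroup D).map D.subtype with hQ
  have hQD : Q ≤ D := map_subtype_le _
  have hQp : IsPGroup p Q := Q₁.2.map _
  have hIQ : Nat.card {a : G // a ∈ Q ∧ u * a * u = a⁻¹} = p ^ i.factorization p := by
    have h1 := card_inverted_sylow hDodd huu (fun a ha => inter_swap huu ha) Q₁ hQ₁
    have h2 := h.card_inter hu huM
    haveI : Nonempty {s : G // orderOf s = 2 ∧ s ∈ M} := ⟨⟨t₀, h.base.invol ht₀ ht₀1, h.SM ht₀⟩⟩
    have h3 : (Nat.card D).factorization p =
        (Nat.card ↥(D ⊓ centralizer ({u} : Set G))).factorization p + i.factorization p := by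
      rw [hD, ← h2, Nat.factorization_mul Nat.card_pos.ne' Nat.card_pos.ne', Finsupp.add_apply]
    rw [h3, add_comm, pow_add] at h1
    exact Nat.eq_of_mul_eq_mul_right (pow_pos hp0.pos _) h1
  have hone : ∃ a ∈ Q, u * a * u = a⁻¹ ∧ a ≠ 1 := by
    by_contra hc
    push Not at hc
    haveI : Subsingleton {a : G // a ∈ Q ∧ u * a * u = a⁻¹} := ⟨fun a b => Subtype.ext
      ((hc a a.2.1 a.2.2).trans (hc b b.2.1 b.2.2).symm)⟩
    have h1 := Finite.card_le_one_iff_subsingleton.mpr ‹_›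
    rw [hIQ] at h1
    have := Nat.one_lt_pow (n := i.factorization p) (by omega) hp0.one_lt
    omega
  -- the Sylow subgroup of `M` over `Q`
  obtain ⟨P₀, hP₀⟩ := (hQp.comap_subtype (K := M)).exists_le_sylow
  have hQP₀ : Q ≤ (P₀ : Subgroup M).map M.subtype := fun a ha =>
    ⟨⟨a, (hQD ha).1⟩, hP₀ (show a ∈ Q from ha), rfl⟩
  obtain ⟨a₀, ha₀, ha₀i, ha₀1⟩ := hone
  have hP₀ne : (P₀ : Subgroup M) ≠ ⊥ := fun e => ha₀1 (by
    have := hQP₀ ha₀
    rwa [e, Subgroup.map_bot, mem_bot] at this)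
  have hN := h.normalizer_zj_le hp hev P₀ hP₀ne
  obtain ⟨P, hP⟩ := CfsgLib.BG.sylow_of_zj P₀ hN
  have hfree : ¬ Involves (Cfsg.qd p) G := free_of_abelian S (fun a ha b hb => h.base.comm ha hb) hp
  have hctl := StrongFusion.controlsOf_zj hp hfree (Or.inl rfl) P (D := (P : Subgroup G))
    ⟨le_rfl, fun _ _ _ hg => hg⟩ (A := (Q : Set G)) (by rw [hP]; exact hQP₀)
  rw [StrongFusion.inducedFunctor_zjA, ← ZJ.zj_zero, hP] at hctl
  have hQu : ∀ a ∈ Q, u * a * u ∈ Q := fun a ha => by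
    have := (mem_normalizer_iff.mp (hQ₁ (mem_zpowers u)) a).mp ha
    rwa [hui] at this
  obtain ⟨x, hx, hxQ⟩ := hctl.2 u (by
    rintro _ ⟨a, ha, rfl⟩
    exact hQP₀ (by simpa [hui] using hQu a ha))
  have hxM : x ∈ M := hN hx
  -- a power of `x` is an involution acting on `Q` like `u`
  obtain ⟨k, m, hm, hkm⟩ := Nat.exists_eq_two_pow_mul_odd (orderOf_pos x).ne'
  have hxk : ∀ (n : ℕ), ∀ a ∈ Q, x ^ n * a * (x ^ n)⁻¹ = u ^ n * a * (u ^ n)⁻¹ ∧ x ^ n * a * (x ^ n)⁻¹ ∈ Q := by
    intro n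
    induction n with
    | zero => intro a ha; simpa using ha
    | succ n ih =>
      intro a ha
      obtain ⟨e, hm⟩ := ih a ha
      have h1 := (hxQ _ hm).symm
      refine ⟨?_, ?_⟩
      · calc x ^ (n + 1) * a * (x ^ (n + 1))⁻¹ = x * (x ^ n * a * (x ^ n)⁻¹) * x⁻¹ := by rw [pow_succ']; group
          _ = u * (x ^ n * a * (x ^ n)⁻¹) * u⁻¹ := h1
          _ = u * (u ^ n * a * (u ^ n)⁻¹) * u⁻¹ := by rw [e]
          _ = _ := by rw [pow_succ']; group
      · rw [show x ^ (n + 1) * a * (x ^ (n + 1))⁻¹ = x * (x ^ n * a * (x ^ n)⁻¹) * x⁻¹ by rw [pow_succ']; group, h1,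
          hui]
        exact hQu _ hm
  have hum : u ^ m = u := by
    obtain ⟨j, rfl⟩ := hm
    rw [pow_succ, pow_mul, pow_two, huu, one_pow, one_mul]
  set t := x ^ m with ht
  have htact : ∀ a ∈ Q, t * a * t⁻¹ = u * a * u := fun a ha => by
    rw [(hxk m a ha).1, hum, hui]
  have htk : orderOf t = 2 ^ k := by
    rw [ht, orderOf_pow_of_dvd hm.pos.ne' (hkm ▸ dvd_mul_left m _), hkm, Nat.mul_div_cancel _ hm.pos]
  have htM : t ∈ M := pow_mem hxM m
  have ht2 : orderOf t = 2 := by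
    obtain ⟨m', hm'⟩ := exists_conj_into_sylow (S.subtype h.SM)
      (IsPGroup.of_card (n := k) (G := ↥(zpowers (⟨t, htM⟩ : ↥M))) (by rw [Nat.card_zpowers, orderOf_mk, htk]))
    have h1 : (m' : G) * t * (m' : G)⁻¹ ∈ (S : Subgroup G) := hm' _ (mem_zpowers _)
    have h2 := h.base.sq _ h1
    rw [show (m' : G) * t * (m' : G)⁻¹ * ((m' : G) * t * (m' : G)⁻¹) = m' * (t * t) * (m' : G)⁻¹ by group,
      conj_eq_one_iff] at h2
    refine orderOf_eq_prime (by rw [pow_two]; exact h2) fun e => ha₀1 ?_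
    have h3 := htact a₀ ha₀
    rw [e, one_mul, inv_one, mul_one, ha₀i] at h3
    have hodd : Odd (orderOf a₀) := Odd.of_dvd_nat hDodd (orderOf_dvd_natCard D (hQD ha₀))
    obtain ⟨j, hj⟩ := hodd
    have h4 : a₀ * a₀ = 1 := mul_eq_one_iff_eq_inv.mpr h3
    have h5 : a₀ ^ (2 * j + 1) = 1 := hj ▸ pow_orderOf_eq_one a₀
    rwa [pow_succ, pow_mul, pow_two, h4, one_pow, one_mul] at h5
  have htt := (isInvol_of_orderOf ht2).2
  have hti : t⁻¹ = t := inv_eq_of_mul_eq_one_left htt
  -- all inverted elements of `Q` lie in the core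
  have hIX : ∀ a ∈ Q, u * a * u = a⁻¹ → a ∈ core M ∧ t * a * t = a⁻¹ := fun a ha hai => by
    have h1 := htact a ha
    rw [hti, hai] at h1
    exact ⟨h.inverted_mem_core ht2 htM (hQD ha).1
      (Odd.of_dvd_nat hDodd (orderOf_dvd_natCard D (hQD ha))) h1, h1⟩
  -- a `t`-invariant Sylow subgroup of the core
  have htn : ∀ a ∈ core M, t * a * t ∈ core M := fun a ha => by
    have := (mem_normalizer_iff.mp (M_le_normalizer htM) a).mp ha
    rwa [hti] at this
  have htp : IsPGroup 2 (zpowers t) := IsPGroup.of_card (n := 1) (by rw [Nat.card_zpowers, ht2, pow_one])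
  obtain ⟨P₁, hUP, hP₁⟩ := CfsgLib.coprime_le_invariant_sylow (A := zpowers t) (K := core M)
    (zpowers_le.mpr (M_le_normalizer htM)) (by
      rw [Nat.card_zpowers, ht2]; exact Nat.coprime_two_left.mpr core_odd)
    (Or.inl (haveI := htp.isNilpotent; inferInstance)) (p := p) (U := Q ⊓ core M) inf_le_right (hQp.to_le inf_le_left)
    (zpowers_le.mpr (CfsgLib.Comp.mem_normalizer_of_maps fun a ha => by
      refine ⟨?_, by rw [hti]; exact htn a ha.2⟩
      rw [htact a ha.1]; exact hQu a ha.1))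
  set P' := (P₁ : Subgroup (core M)).map (core M).subtype with hP'
  have hle : ∀ a ∈ Q, u * a * u = a⁻¹ → a ∈ P' ∧ t * a * t = a⁻¹ := fun a ha hai =>
    ⟨hUP ⟨ha, (hIX a ha hai).1⟩, (hIX a ha hai).2⟩
  have hcard : Nat.card {a : G // a ∈ P' ∧ t * a * t = a⁻¹} * p ^ (7 : ℕ).factorization p =
      p ^ i.factorization p := by
    have h1 := card_inverted_sylow core_odd htt htn P₁ hP₁
    obtain ⟨m', hm', hmS⟩ := h.invol_into ht2 htM
    set s := m' * t * m'⁻¹ with hs
    have hs1 : s ≠ 1 := ((isInvol_of_orderOf ht2).conj m').1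
    have h2 := h.invol_count hmS hs1
    have hc : Nat.card ↥(core M ⊓ centralizer ({s} : Set G)) = Nat.card ↥(core M ⊓ centralizer ({t} : Set G)) := by
      have e : (core M ⊓ centralizer ({t} : Set G)).map (MulAut.conj m').toMonoidHom =
          core M ⊓ centralizer ({s} : Set G) := by
        refine le_antisymm ?_ fun a ha => ?_
        · rintro _ ⟨a, ⟨ha1, ha2⟩, rfl⟩
          exact ⟨(mem_normalizer_iff.mp (M_le_normalizer hm') a).mp ha1,
            mem_cent_of_commute (conj_commute m' (commute_of_mem_cent ha2))⟩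
        · refine ⟨m'⁻¹ * a * m', ⟨?_, ?_⟩, by simp [mul_assoc]⟩
          · simpa using (mem_normalizer_iff.mp (M_le_normalizer (inv_mem hm')) a).mp ha.1
          · have h3 := conj_commute m'⁻¹ (commute_of_mem_cent ha.2)
            rw [hs, show m'⁻¹ * (m' * t * m'⁻¹) * m'⁻¹⁻¹ = t by group, inv_inv] at h3
            exact mem_cent_of_commute h3
      rw [← e, card_map_of_injective (MulEquiv.injective (MulAut.conj m'))]
    rw [hc] at h2
    haveI : Nonempty {s : G // orderOf s = 2 ∧ s ∈ M} := ⟨⟨t, ht2, htM⟩⟩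
    have h3 := congrArg (fun n : ℕ => n.factorization p) h2
    rw [Nat.factorization_mul Nat.card_pos.ne' Nat.card_pos.ne',
      Nat.factorization_mul (by norm_num) Nat.card_pos.ne', Finsupp.add_apply, Finsupp.add_apply] at h3
    refine Nat.eq_of_mul_eq_mul_right (pow_pos hp0.pos
      ((Nat.card ↥(core M ⊓ centralizer ({t} : Set G))).factorization p)) ?_
    rw [mul_right_comm, h1, ← pow_add, ← pow_add, hi, h3, add_comm]
  let f : {a : G // a ∈ Q ∧ u * a * u = a⁻¹} → {a : G // a ∈ P' ∧ t * a * t = a⁻¹} :=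
    fun a => ⟨a.1, hle a.1 a.2.1 a.2.2⟩
  have hfinj : Function.Injective f := fun a b e =>
    Subtype.ext (congrArg (fun w : {a : G // a ∈ P' ∧ t * a * t = a⁻¹} => w.1) e)
  have hcle := Nat.card_le_card_of_injective f hfinj
  rw [hIQ] at hcle
  have hp7 : (7 : ℕ).factorization p = 0 := by
    by_contra hne
    have h1 : p ^ 1 ≤ p ^ (7 : ℕ).factorization p := Nat.pow_le_pow_right hp0.pos (Nat.one_le_iff_ne_zero.mpr hne)
    have h2 := Nat.mul_le_mul hcle h1
    rw [hcard, pow_one] at h2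
    have := Nat.mul_lt_mul_of_pos_left hp0.one_lt (pow_pos hp0.pos (i.factorization p))
    omega
  rw [hp7, pow_zero, mul_one] at hcard
  have hbij : Function.Bijective f := hfinj.bijective_of_nat_card_le (by rw [hcard, hIQ])
  -- the subgroup generated by these elements
  set A := closure {a : G | a ∈ P' ∧ t * a * t = a⁻¹} with hA
  have hAQ : A ≤ Q := (closure_le _).mpr fun a ha => by
    obtain ⟨b, hb⟩ := hbij.2 ⟨a, ha⟩
    have e := congrArg (·.val) hb
    simp [f] at e
    exact e ▸ b.2.1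
  have huA : u ∈ normalizer (A : Set G) := by
    refine CfsgLib.Comp.mem_normalizer_of_maps fun a ha => ?_
    induction ha using closure_induction with
    | mem a ha =>
      rw [hui, ← htact a (hAQ (subset_closure ha)), hti, ha.2]
      exact inv_mem (subset_closure ha)
    | one => simp
    | mul a b _ _ ia ib =>
      rw [show u * (a * b) * u⁻¹ = u * a * u⁻¹ * (u * b * u⁻¹) by group]
      exact mul_mem ia ib
    | inv a _ ia =>
      rw [show u * a⁻¹ * u⁻¹ = (u * a * u⁻¹)⁻¹ by group]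
      exact inv_mem ia
  -- a Sylow `2`-subgroup of `N_M(P')` containing `t`
  set L := M ⊓ normalizer (P' : Set G) with hL
  have hPM : P' ≤ M := (map_subtype_le _).trans core_le
  have htL : t ∈ L := ⟨htM, hP₁ (mem_zpowers t)⟩
  obtain ⟨T₂, hT₂⟩ := (htp.comap_subtype (K := L)).exists_le_sylow
  set S' := (T₂ : Subgroup L).map L.subtype with hS'
  have hS'c : 8 ∣ Nat.card S' := by
    set C₀ := (core M).subgroupOf M with hC₀
    haveI : C₀.Normal := (normal_subgroupOf_iff_le_normalizer core_le).mpr M_le_normalizer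
    let e₂ : ↥(core M) ≃* ↥C₀ := (subgroupOfEquivOfLe core_le).symm
    let P₂ : Sylow p C₀ := P₁.mapSurjective (f := e₂.toMonoidHom) e₂.surjective
    have hfr := P₂.normalizer_sup_eq_top
    have h1 := CfsgLib.card_sup_dvd_mul (normalizer (((P₂ : Subgroup C₀).map C₀.subtype : Subgroup M) : Set M)) C₀
    rw [hfr, card_top] at h1
    have h2 : Nat.card ↥(normalizer (((P₂ : Subgroup C₀).map C₀.subtype : Subgroup M) : Set M)) ∣ Nat.card L := by
      rw [← card_map_of_injective (K := normalizer (((P₂ : Subgroup C₀).map C₀.subtype : Subgroup M) : Set M))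
        M.subtype_injective]
      refine card_dvd_of_le ?_
      rintro _ ⟨n, hn, rfl⟩
      refine ⟨n.2, CfsgLib.Comp.mem_normalizer_of_maps fun a ha => ?_⟩
      have e : ∀ w : M, w ∈ (P₂ : Subgroup C₀).map C₀.subtype ↔ (w : G) ∈ P' := by
        intro w
        constructor
        · rintro ⟨c, ⟨c', hc', rfl⟩, rfl⟩
          exact ⟨c', hc', rfl⟩
        · rintro ⟨c', hc', e⟩
          exact ⟨_, ⟨c', hc', rfl⟩, Subtype.ext e⟩
      exact (e _).mp ((mem_normalizer_iff.mp hn ⟨a, hPM ha⟩).mp ((e _).mpr ha))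
    have h3 : 2 ^ 3 ∣ Nat.card L := by
      refine (Nat.Coprime.dvd_of_dvd_mul_right ?_ ((show 2 ^ 3 ∣ Nat.card M from
        (by rw [h.base.card]; norm_num : 2 ^ 3 ∣ Nat.card (S : Subgroup G)).trans (card_dvd_of_le h.SM)).trans h1)).trans h2
      rw [hC₀, Nat.card_congr (subgroupOfEquivOfLe core_le).toEquiv]
      exact Nat.Coprime.pow_left 3 (Nat.coprime_two_left.mpr core_odd)
    rw [hS', card_map_of_injective L.subtype_injective]
    exact T₂.pow_dvd_card_of_pow_dvd_card h3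
  have hS'M : S' ≤ M := (map_subtype_le _).trans inf_le_left
  obtain ⟨m₂, hm₂⟩ := exists_conj_into_sylow (S.subtype h.SM) ((T₂.2.map L.subtype).comap_subtype (K := M))
  have hmap : S'.map (MulAut.conj (m₂ : G)).toMonoidHom = (S : Subgroup G) := by
    refine eq_of_le_of_card_ge ?_ (by
      rw [card_map_of_injective (MulEquiv.injective (MulAut.conj (m₂ : G))), h.base.card]
      exact Nat.le_of_dvd Nat.card_pos hS'c)
    rintro _ ⟨w, hw, rfl⟩
    exact hm₂ ⟨w, hS'M hw⟩ hw
  have htS' : t ∈ S' := ⟨⟨t, htL⟩, hT₂ (show t ∈ zpowers t from mem_zpowers t), rfl⟩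
  have hS'A : S' ≤ normalizer (A : Set G) := by
    intro w hw
    have hwt : w * t = t * w := by
      have h1 := h.base.comm (hmap.le ⟨w, hw, rfl⟩) (hmap.le ⟨t, htS', rfl⟩)
      exact MulEquiv.injective (MulAut.conj (m₂ : G)) (by simpa [map_mul] using h1)
    have hwP : w ∈ normalizer (P' : Set G) := (map_subtype_le _ hw).2
    refine CfsgLib.Comp.mem_normalizer_of_maps fun a ha => ?_
    induction ha using closure_induction with
    | mem a ha =>
      refine subset_closure ⟨(mem_normalizer_iff.mp hwP a).mp ha.1, ?_⟩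
      calc t * (w * a * w⁻¹) * t = (t * w) * a * (w⁻¹ * t⁻¹) := by rw [hti]; group
        _ = (w * t) * a * (w⁻¹ * t⁻¹) := by rw [hwt]
        _ = w * t * a * (t * w)⁻¹ := by group
        _ = w * t * a * (w * t)⁻¹ := by rw [hwt]
        _ = w * (t * a * t) * w⁻¹ := by rw [mul_inv_rev, hti]; group
        _ = _ := by rw [ha.2]; group
    | one => simp
    | mul a b _ _ ia ib =>
      rw [show w * (a * b) * w⁻¹ = w * a * w⁻¹ * (w * b * w⁻¹) by group]
      exact mul_mem ia ib
    | inv a _ ia =>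
      rw [show w * a⁻¹ * w⁻¹ = (w * a * w⁻¹)⁻¹ by group]
      exact inv_mem ia
  have hA0 : A ≠ ⊥ := fun e => ha₀1 (by
    have h1 : a₀ ∈ A := subset_closure (hle a₀ ha₀ ha₀i)
    rwa [e, mem_bot] at h1)
  have hAtop : A ≠ ⊤ := fun e => h.ne_top (top_le_iff.mp (e ▸ (hAQ.trans (hQD.trans inf_le_left))))
  refine huM (h.uniq_conj (normalizer_ne_top h.simple hA0 hAtop) (inv_mem m₂.2) (fun s hs => ?_) huA)
  obtain ⟨w, hw, rfl⟩ := hmap.ge hs
  show (m₂ : G)⁻¹ * ((m₂ : G) * w * (m₂ : G)⁻¹) * (m₂ : G)⁻¹⁻¹ ∈ _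
  rw [show (m₂ : G)⁻¹ * ((m₂ : G) * w * (m₂ : G)⁻¹) * (m₂ : G)⁻¹⁻¹ = w by group]
  exact hS'A hw

/-- `M` has exactly seven involutions. -/
theorem seven (h : Local S M) : Nat.card {s : G // orderOf s = 2 ∧ s ∈ M} = 7 := by
  obtain ⟨t, ht, ht1⟩ := h.exists_invol
  haveI : Nonempty {s : G // orderOf s = 2 ∧ s ∈ M} := ⟨⟨t, h.base.invol ht ht1, h.SM ht⟩⟩
  set i := Nat.card {s : G // orderOf s = 2 ∧ s ∈ M}
  have hdvd : i ∣ 7 := by
    refine (Nat.factorization_le_iff_dvd Nat.card_pos.ne' (by norm_num)).mp fun p => ?_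
    by_cases hp : p.Prime
    · haveI := Fact.mk hp
      exact h.fac_le
    · rw [Nat.factorization_eq_zero_of_not_prime _ hp]; exact Nat.zero_le _
  rcases (Nat.dvd_prime (by norm_num)).mp hdvd with e | e
  · exfalso
    have h1 := h.invol_count ht ht1
    rw [show Nat.card {s : G // orderOf s = 2 ∧ s ∈ M} = i from rfl, e, one_mul] at h1
    have h2 := Nat.le_of_dvd Nat.card_pos (card_dvd_of_le (inf_le_left :
      core M ⊓ centralizer ({t} : Set G) ≤ core M))
    rw [h1] at h2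
    have := Nat.card_pos (α := ↥(core M))
    omega
  · exact e

/-- The core centralizes `S`. -/
theorem core_le_cent (h : Local S M) : core M ≤ centralizer ((S : Subgroup G) : Set G) := by
  refine fun x hx => mem_centralizer_iff.mpr fun t ht => ?_
  by_cases ht1 : t = 1
  · subst ht1; simp
  have h1 := h.invol_count ht ht1
  rw [h.seven] at h1
  have h2 : core M ⊓ centralizer ({t} : Set G) = core M :=
    eq_of_le_of_card_ge inf_le_left (Nat.eq_of_mul_eq_mul_left (by norm_num) h1).ge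
  exact (commute_of_mem_cent (h2.ge hx).2).symm

/-- `M` is the normalizer of `S`. -/
theorem eq_normalizer (h : Local S M) : M = normalizer ((S : Subgroup G) : Set G) := by
  refine le_antisymm (fun g hg => ?_) h.NS
  obtain ⟨o, ho, n, hn, rfl⟩ := h.exists_decomp hg
  exact mul_mem (centralizer_le_normalizer _ (h.core_le_cent ho)) hn

end Local

end CfsgLib.HallE8
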