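import Cfsg.Agent.Lib.HallE8.Strong
import Cfsg.Agent.Lib.CoprimeFixedProduct

/-!
The structure of `M` modulo its core `X`: the number `i` of involutions of `M` satisfies `i |C_X(t)| = 7 |X|`.
-/

set_option autoImplicit false
set_option linter.unusedSectionVars false
set_option linter.style.haveILetI false

namespace CfsgLib.HallE8

open Cfsg Subgroup CfsgLib.ZCReduction

universe u

variable {G : Type u} [Group G] [Finite G]

theorem card_sup_mul {A B : Subgroup G} (h : B ≤ normalizer (A : Set G)) :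
    Nat.card ↥(A ⊔ B) * Nat.card ↥(A ⊓ B) = Nat.card A * Nat.card B := by
  set L := A ⊔ B
  haveI hn : (A.subgroupOf L).Normal :=
    (normal_subgroupOf_iff_le_normalizer le_sup_left).mpr (sup_le le_normalizer h)
  have h1 : A.relIndex L = A.relIndex B := by
    have a1 : (A.subgroupOf L).relIndex (L.subgroupOf L) = A.relIndex L := relIndex_subgroupOf le_rfl
    have a2 : (A.subgroupOf L).relIndex (B.subgroupOf L) = A.relIndex B := relIndex_subgroupOf le_sup_right
    rw [← a1, ← a2]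
    have a3 : L.subgroupOf L = A.subgroupOf L ⊔ B.subgroupOf L :=
      subgroupOf_sup (le_sup_left : A ≤ L) (le_sup_right : B ≤ L)
    rw [a3]
    exact Subgroup.relIndex_sup_left (K := A.subgroupOf L) (H := B.subgroupOf L)
  have e1 := CfsgLib.card_mul_relIndex (le_sup_left : A ≤ L)
  have e2 := CfsgLib.card_mul_relIndex (inf_le_right : A ⊓ B ≤ B)
  rw [inf_relIndex_right] at e2
  rw [← e1, ← e2, h1]
  ring

/-- The `p`-part of the number of elements of an invariant Sylow subgroup inverted by an involution. -/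
theorem card_inverted_sylow {p : ℕ} [hp : Fact p.Prime] {A : Subgroup G} (hA : Odd (Nat.card A)) {t : G}
    (ht : t * t = 1) (hn : ∀ a ∈ A, t * a * t ∈ A) (P : Sylow p A)
    (hP : zpowers t ≤ normalizer ((P : Subgroup A).map A.subtype : Set G)) :
    Nat.card {a : G // a ∈ (P : Subgroup A).map A.subtype ∧ t * a * t = a⁻¹} *
        p ^ (Nat.card ↥(A ⊓ centralizer ({t} : Set G))).factorization p =
      p ^ (Nat.card A).factorization p := by
  haveI : Fact (Nat.Prime 2) := ⟨Nat.prime_two⟩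
  have hinv : t⁻¹ = t := inv_eq_of_mul_eq_one_left ht
  have htp : IsPGroup 2 (zpowers t) := fun w => ⟨1, by
    obtain ⟨i, hi⟩ := mem_zpowers_iff.mp w.2
    refine Subtype.ext ?_
    rw [pow_one, SubmonoidClass.coe_pow, OneMemClass.coe_one, ← hi, ← zpow_natCast, ← zpow_mul, mul_comm,
      zpow_mul, zpow_natCast, pow_two, ht, one_zpow]⟩
  have htA : zpowers t ≤ normalizer (A : Set G) := zpowers_le.mpr (mem_normalizer_iff.mpr fun a =>
    ⟨fun ha => by rw [hinv]; exact hn a ha, fun ha => by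
      have h2 := hn _ ha
      rwa [hinv, show t * (t * a * t) * t = (t * t) * a * (t * t) by group, ht, one_mul, mul_one] at h2⟩)
  have hcop : (Nat.card (zpowers t)).Coprime (Nat.card A) := by
    obtain ⟨k, hk⟩ := IsPGroup.iff_card.mp htp
    rw [hk]
    exact (Nat.coprime_two_left.mpr hA).pow_left k
  have h1 := CfsgLib.FixProd.card_fixed_sylow htp htA hcop P hP
  rw [← CfsgLib.FixProd.centralizer_singleton_eq] at h1
  have h2 := CfsgLib.InvTimesAlt.card_fixed_mul_inverted ((P : Subgroup A).map A.subtype) (by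
    rw [card_map_of_injective A.subtype_injective]
    exact Odd.of_dvd_nat hA (card_subgroup_dvd_card _)) ht (fun a ha => by
      have h3 := (mem_normalizer_iff.mp (hP (mem_zpowers t)) a).mp ha
      rwa [hinv] at h3)
  rw [h1, card_map_of_injective A.subtype_injective, P.card_eq_multiplicity, mul_comm] at h2
  exact h2

namespace Local

variable {S : Sylow 2 G} {M : Subgroup G}

/-- The core of `M`. -/
noncomputable abbrev core (M : Subgroup G) : Subgroup G := (pPrimeCore 2 M).map M.subtype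

theorem core_le : core M ≤ M := map_subtype_le _

theorem M_le_normalizer : M ≤ normalizer (core M : Set G) := CfsgLib.PairsSylow.le_normalizer_map_pPrimeCore M

theorem core_odd : Odd (Nat.card ↥(core M)) :=
  Nat.odd_iff.mpr (Nat.two_dvd_ne_zero.mp (CfsgLib.PairsSylow.not_dvd_map_pPrimeCore M))

theorem core_inf_S : core M ⊓ (S : Subgroup G) = ⊥ := by
  haveI : Fact (Nat.Prime 2) := ⟨Nat.prime_two⟩
  exact (eq_bot_iff_forall _).mpr fun c hc => CfsgLib.PairsSylow.eq_one_of_pPrime_of_isPGroup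
    (CfsgLib.PairsSylow.not_dvd_map_pPrimeCore M) S.2 hc.1 hc.2

theorem core_sup_le (h : Local S M) : core M ⊔ (S : Subgroup G) ≤ M := sup_le core_le h.SM

theorem exists_decomp (h : Local S M) {g : G} (hg : g ∈ M) :
    ∃ o ∈ core M, ∃ n, n ∈ normalizer ((S : Subgroup G) : Set G) ∧ g = o * n := by
  obtain ⟨o, ho, n, -, hn, e⟩ := h.base.exists_decomp h.solv h.SM hg
  exact ⟨o, ho, n, hn, e⟩

theorem le_normalizer_sup (h : Local S M) : M ≤ normalizer ((core M ⊔ (S : Subgroup G) : Subgroup G) : Set G) := by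
  intro g hg
  obtain ⟨o, ho, n, hn, rfl⟩ := h.exists_decomp hg
  refine mul_mem (le_normalizer (mem_sup_left ho)) ?_
  refine mem_normalizer_iff_map_conj_eq.mpr ?_
  rw [Subgroup.map_sup, mem_normalizer_iff_map_conj_eq.mp (M_le_normalizer (h.NS hn)),
    mem_normalizer_iff_map_conj_eq.mp hn]

theorem cent_S_le (h : Local S M) : centralizer ((S : Subgroup G) : Set G) ≤ core M ⊔ (S : Subgroup G) := by
  haveI : Fact (Nat.Prime 2) := ⟨Nat.prime_two⟩
  haveI := h.solv
  intro c hc
  have hcM : c ∈ M := h.NS (centralizer_le_normalizer _ hc)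
  have hsolv : IsPSolvable 2 M := CfsgLib.PLocal.isPSolvable_of_isSolvable _ M rfl inferInstance
  set T : Sylow 2 M := S.subtype h.SM
  have h1 := CfsgLib.PairsSylow.mem_pCore_quotient hsolv T (a := ⟨c, hcM⟩) fun b hb =>
    mem_centralizer_singleton_iff.mpr (Subtype.ext (mem_centralizer_iff.mp hc (b : G) hb))
  obtain ⟨b, hb, e⟩ := CfsgLib.pCore_le_sylow (T.mapSurjective (QuotientGroup.mk'_surjective _)) h1
  have h2 : b⁻¹ * ⟨c, hcM⟩ ∈ pPrimeCore 2 M := QuotientGroup.eq.mp e
  have h3 : (b : G)⁻¹ * c ∈ core M := ⟨_, h2, rfl⟩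
  have := mul_mem (mem_sup_right (S := core M) (show (b : G) ∈ (S : Subgroup G) from hb)) (mem_sup_left h3)
  rwa [mul_inv_cancel_left] at this

theorem cent_le_sup (h : Local S M) {t : G} (ht : t ∈ (S : Subgroup G)) (ht1 : t ≠ 1) :
    centralizer ({t} : Set G) ≤ core M ⊔ (S : Subgroup G) := by
  intro g hg
  obtain ⟨o, ho, n, hn, rfl⟩ := h.exists_decomp (h.cent t ht ht1 hg)
  refine mul_mem (mem_sup_left ho) (h.cent_S_le (h.base.mem_cent_S hn ht ht1 ?_))
  set w := n * t * n⁻¹ with hw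
  have hwS : w ∈ (S : Subgroup G) := (mem_normalizer_iff.mp hn t).mp ht
  have e : o * w * o⁻¹ = t := by
    have := commute_of_mem_cent hg
    calc o * w * o⁻¹ = o * n * t * (o * n)⁻¹ := by rw [hw]; group
      _ = t := by rw [this, mul_inv_cancel_right]
  have h1 : w⁻¹ * t ∈ core M := by
    rw [← e, show w⁻¹ * (o * w * o⁻¹) = (w⁻¹ * o * w⁻¹⁻¹) * o⁻¹ by group]
    exact mul_mem ((mem_normalizer_iff.mp (M_le_normalizer (h.SM (inv_mem hwS))) o).mp ho) (inv_mem ho)
  have h3 : w⁻¹ * t ∈ core M ⊓ (S : Subgroup G) := ⟨h1, Subgroup.mul_mem _ (Subgroup.inv_mem _ hwS) ht⟩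
  rw [core_inf_S, mem_bot] at h3
  have h2 : w⁻¹ * t = 1 := h3
  exact mul_inv_eq_iff_eq_mul.mp (inv_mul_eq_one.mp h2)

/-- The automizer of `S` has order seven. -/
theorem card_normalizer (h : Local S M) : Nat.card ↥(normalizer ((S : Subgroup G) : Set G)) =
    7 * Nat.card ↥(centralizer ((S : Subgroup G) : Set G)) := by
  classical
  obtain ⟨t, ht, ht1⟩ := h.exists_invol
  set N := normalizer ((S : Subgroup G) : Set G)
  set C := centralizer ((S : Subgroup G) : Set G) with hC
  have key : ∀ a b : N, (a : G) * t * (a : G)⁻¹ = b * t * (b : G)⁻¹ ↔ a⁻¹ * b ∈ C.subgroupOf N := by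
    intro a b
    rw [mem_subgroupOf, Subgroup.coe_mul, Subgroup.coe_inv]
    refine ⟨fun e => h.base.mem_cent_S (mul_mem (inv_mem a.2) b.2) ht ht1 ?_, fun h1 => ?_⟩
    · calc (a : G)⁻¹ * b * t = (a : G)⁻¹ * (b * t * (b : G)⁻¹) * b := by group
        _ = (a : G)⁻¹ * (a * t * (a : G)⁻¹) * b := by rw [e]
        _ = _ := by group
    · have h2 : t * ((a : G)⁻¹ * b) = (a : G)⁻¹ * b * t := mem_centralizer_iff.mp h1 t ht
      calc (a : G) * t * (a : G)⁻¹ = a * (t * ((a : G)⁻¹ * b)) * (b : G)⁻¹ := by group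
        _ = a * ((a : G)⁻¹ * b * t) * (b : G)⁻¹ := by rw [h2]
        _ = _ := by group
  let g : N → {w : (S : Subgroup G) // w ≠ 1} := fun m =>
    ⟨⟨(m : G) * t * (m : G)⁻¹, (mem_normalizer_iff.mp m.2 t).mp ht⟩,
      fun e => ht1 (conj_eq_one_iff.mp (congrArg Subtype.val e))⟩
  let f : N ⧸ C.subgroupOf N → {w : (S : Subgroup G) // w ≠ 1} := Quotient.lift g
    fun a b hab => Subtype.ext (Subtype.ext ((key a b).mpr (QuotientGroup.leftRel_apply.mp hab)))
  have hf : Function.Bijective f := by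
    refine ⟨?_, fun w => ?_⟩
    · rintro ⟨a⟩ ⟨b⟩ e
      exact Quotient.sound (QuotientGroup.leftRel_apply.mpr
        ((key a b).mp (congrArg (fun w => ((w.1 : (S : Subgroup G)) : G)) e)))
    · obtain ⟨n, hn, e⟩ := h.trans t ht _ w.1.2 ht1 (fun e => w.2 (Subtype.ext e))
      exact ⟨QuotientGroup.mk ⟨n, hn⟩, Subtype.ext (Subtype.ext e)⟩
  have h7 : Nat.card {w : (S : Subgroup G) // w ≠ 1} = 7 := by
    have e1 : ({w : (S : Subgroup G) | w ≠ 1}) = ({1} : Set (S : Subgroup G))ᶜ := by ext w; simp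
    rw [← Set.coe_setOf, Nat.card_coe_set_eq, e1, Set.ncard_compl, Set.ncard_singleton, h.base.card]
  have h1 := CfsgLib.card_mul_relIndex (centralizer_le_normalizer _ : C ≤ N)
  rw [Subgroup.relIndex, Subgroup.index_eq_card, Nat.card_eq_of_bijective f hf, h7] at h1
  rw [← h1, mul_comm]

theorem card_M (h : Local S M) : Nat.card M = 7 * Nat.card ↥(core M ⊔ (S : Subgroup G)) := by
  haveI := h.base.isMulCommutative
  set X := core M
  set N := normalizer ((S : Subgroup G) : Set G)
  set C := centralizer ((S : Subgroup G) : Set G)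
  have hSC : (S : Subgroup G) ≤ C := fun s hs => mem_centralizer_iff.mpr fun w hw => h.base.comm hw hs
  have hXN : X ⊔ N = M := le_antisymm (sup_le core_le h.NS) fun g hg => by
    obtain ⟨o, ho, n, hn, rfl⟩ := h.exists_decomp hg
    exact mul_mem (mem_sup_left ho) (mem_sup_right hn)
  have hXC : X ⊔ C = X ⊔ (S : Subgroup G) := le_antisymm (sup_le le_sup_left h.cent_S_le) (sup_le_sup_left hSC _)
  have hinf : X ⊓ N = X ⊓ C := by
    refine le_antisymm (fun x hx => ⟨hx.1, mem_centralizer_iff.mpr fun s hs => ?_⟩)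
      (inf_le_inf_left _ (centralizer_le_normalizer _))
    have h1 : x * s * x⁻¹ * s⁻¹ = 1 := by
      suffices h4 : x * s * x⁻¹ * s⁻¹ ∈ core M ⊓ (S : Subgroup G) by rwa [core_inf_S, mem_bot] at h4
      refine ⟨?_, Subgroup.mul_mem _ ((mem_normalizer_iff.mp hx.2 s).mp hs) (Subgroup.inv_mem _ hs)⟩
      rw [show x * s * x⁻¹ * s⁻¹ = x * (s * x⁻¹ * s⁻¹) by group]
      exact mul_mem hx.1 ((mem_normalizer_iff.mp (M_le_normalizer (h.SM hs)) _).mp (inv_mem hx.1))
    exact (mul_inv_eq_iff_eq_mul.mp (mul_inv_eq_one.mp h1)).symm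
  have e1 := card_sup_mul (A := X) (B := N) (h.NS.trans M_le_normalizer)
  have e2 := card_sup_mul (A := X) (B := C)
    ((centralizer_le_normalizer _).trans (h.NS.trans M_le_normalizer))
  rw [hXN, hinf, h.card_normalizer] at e1
  rw [hXC] at e2
  refine Nat.eq_of_mul_eq_mul_right (Nat.card_pos : 0 < Nat.card ↥(X ⊓ C)) ?_
  rw [e1, mul_assoc, e2]
  ring

theorem sq_mem_core (h : Local S M) {k : G} (hk : k ∈ core M ⊔ (S : Subgroup G)) : k * k ∈ core M := by
  have hn : (S : Subgroup G) ≤ normalizer (core M : Set G) := h.SM.trans M_le_normalizer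
  rw [← SetLike.mem_coe, coe_mul_of_right_le_normalizer_left _ _ hn] at hk
  obtain ⟨x, hx, s, hs, rfl⟩ := hk
  show x * s * (x * s) ∈ core M
  have hs2 := h.base.sq s hs
  rw [show x * s * (x * s) = x * (s * x * s⁻¹) * (s * s) by group, hs2, mul_one]
  exact mul_mem hx ((mem_normalizer_iff.mp (hn hs) x).mp hx)

/-- An element of odd order of `M` inverted by an involution of `M` lies in the core. -/
theorem inverted_mem_core (h : Local S M) {t a : G} (ht : orderOf t = 2) (htM : t ∈ M) (ha : a ∈ M)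
    (hodd : Odd (orderOf a)) (hinv : t * a * t = a⁻¹) : a ∈ core M := by
  obtain ⟨s, hs, hs1⟩ := h.exists_invol
  obtain ⟨m, hm, e⟩ := h.conj_M ht htM hs hs1
  set K := core M ⊔ (S : Subgroup G) with hK
  have htK : t ∈ K := e ▸ (mem_normalizer_iff.mp (h.le_normalizer_sup hm) s).mp (mem_sup_right hs)
  have hat : a * t * a⁻¹ ∈ K := (mem_normalizer_iff.mp (h.le_normalizer_sup ha) t).mp htK
  have h2 : a * a ∈ K := by
    have h3 : a * t * a⁻¹ * t = a * a := by
      calc a * t * a⁻¹ * t = a * t * (t * a * t) * t := by rw [hinv]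
        _ = a * (t * t) * a * (t * t) := by group
        _ = a * a := by rw [(isInvol_of_orderOf ht).2]; group
    exact h3 ▸ mul_mem hat htK
  have pw : ∀ {H : Subgroup G}, a * a ∈ H → a ∈ H := fun {H} h4 => by
    obtain ⟨j, hj⟩ := hodd
    have h5 := pow_mem h4 (j + 1)
    rw [← pow_two, ← pow_mul, show 2 * (j + 1) = (2 * j + 1) + 1 by ring, pow_succ, ← hj, pow_orderOf_eq_one,
      one_mul] at h5
    exact h5
  exact pw (h.sq_mem_core (pw h2))

/-- `i |C_X(t)| = 7 |X|`. -/
theorem invol_count (h : Local S M) {t : G} (ht : t ∈ (S : Subgroup G)) (ht1 : t ≠ 1) :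
    Nat.card {s : G // orderOf s = 2 ∧ s ∈ M} * Nat.card ↥(core M ⊓ centralizer ({t} : Set G)) =
      7 * Nat.card ↥(core M) := by
  set X := core M
  set C := centralizer ({t} : Set G)
  have hXC : X ⊔ C = X ⊔ (S : Subgroup G) := le_antisymm (sup_le le_sup_left (h.cent_le_sup ht ht1))
    (sup_le_sup_left (h.base.le_centralizer ht) _)
  have e2 := card_sup_mul (A := X) (B := C) ((h.cent t ht ht1).trans M_le_normalizer)
  rw [hXC] at e2
  have e3 := h.card_invol ht ht1
  rw [h.card_M] at e3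
  refine Nat.eq_of_mul_eq_mul_right (Nat.card_pos : 0 < Nat.card C) ?_
  calc _ = (Nat.card {s : G // orderOf s = 2 ∧ s ∈ M} * Nat.card C) * Nat.card ↥(X ⊓ C) := by ring
    _ = 7 * (Nat.card ↥(X ⊔ (S : Subgroup G)) * Nat.card ↥(X ⊓ C)) := by rw [e3]; ring
    _ = _ := by rw [e2]; ring

end Local

end CfsgLib.HallE8
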