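import Cfsg.Agent.Lib.HallE8.Control
import Cfsg.Agent.S0346

/-!
`G` acts on the cosets of `M = N(S)` as a Zassenhaus group of degree `|C(S)| + 1`. Hence `|C(S)| = 8` and
`9` divides `|G|`.
-/

set_option autoImplicit false
set_option linter.unusedSectionVars false
set_option linter.style.haveILetI false

namespace CfsgLib.HallE8

open Cfsg Subgroup CfsgLib.ZCReduction

universe u

variable {G : Type u} [Group G] [Finite G]

/-- An involution without nontrivial fixed points on a subgroup of odd order inverts it. -/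
theorem all_inverted {A : Subgroup G} (hA : Odd (Nat.card A)) {u : G} (hu : u * u = 1)
    (hn : ∀ a ∈ A, u * a * u ∈ A) (hfix : ∀ a ∈ A, a * u = u * a → a = 1) :
    ∀ a ∈ A, u * a * u = a⁻¹ := by
  have h1 := CfsgLib.InvTimesAlt.card_fixed_mul_inverted A hA hu hn
  have h2 : A ⊓ centralizer ({u} : Set G) = ⊥ :=
    (eq_bot_iff_forall _).mpr fun a ha => hfix a ha.1 (commute_of_mem_cent ha.2)
  rw [h2, card_bot, one_mul] at h1
  have hb := (Function.Injective.bijective_of_nat_card_le
    (f := fun a : {a : G // a ∈ A ∧ u * a * u = a⁻¹} => (⟨a.1, a.2.1⟩ : A))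
    (fun a b e => Subtype.ext (congrArg (fun w : A => (w : G)) e)) h1.ge)
  intro a ha
  obtain ⟨b, hb⟩ := hb.2 ⟨a, ha⟩
  have e : b.1 = a := congrArg Subtype.val hb
  exact e ▸ b.2.2

theorem eq_one_of_odd_of_pow_four {d : G} (hodd : Odd (orderOf d)) (h : d ^ 4 = 1) : d = 1 := by
  have h1 : Nat.Coprime (orderOf d) 4 := (Nat.coprime_two_right.mpr hodd).pow_right 2
  exact orderOf_eq_one_iff.mp (h1.eq_one_of_dvd (orderOf_dvd_of_pow_eq_one h))

/-- An element of order seven is not an involution's fixed and inverted point. -/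
theorem eq_one_of_inv_self {d : G} (hodd : Odd (orderOf d)) (h : d = d⁻¹) : d = 1 := by
  refine eq_one_of_odd_of_pow_four hodd ?_
  have h1 : d * d = 1 := mul_eq_one_iff_eq_inv.mpr h
  rw [show (4 : ℕ) = 2 + 2 from rfl, pow_add, pow_two, h1, one_mul]

namespace Local

variable {S : Sylow 2 G} {M : Subgroup G}

theorem mem_N (h : Local S M) {g : G} (hg : g ∈ M) : g ∈ normalizer ((S : Subgroup G) : Set G) :=
  h.eq_normalizer.le hg

theorem cent_ne_top (h : Local S M) {a : G} (ha : a ≠ 1) : centralizer ({a} : Set G) ≠ ⊤ := by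
  intro e
  rcases normal_cases h.simple (center G) with hc | hc
  · exact ha (mem_bot.mp (hc ▸ mem_center_iff.mpr fun g => commute_of_mem_cent (e ▸ mem_top g)))
  · refine h.ne_top (top_le_iff.mp fun g _ => h.NS (centralizer_le_normalizer _ ?_))
    exact mem_centralizer_iff.mpr fun s _ => mem_center_iff.mp (hc ▸ mem_top g) s

theorem invol_mem_S (h : Local S M) {s : G} (hs : orderOf s = 2) (hsM : s ∈ M) : s ∈ (S : Subgroup G) := by
  obtain ⟨m, hm, hmS⟩ := h.invol_into hs hsM
  exact (mem_normalizer_iff.mp (h.mem_N hm) s).mpr hmS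

theorem cent_eq (h : Local S M) {t g : G} (ht : t ∈ (S : Subgroup G)) (ht1 : t ≠ 1) (hg : g * t = t * g) :
    g ∈ centralizer ((S : Subgroup G) : Set G) :=
  h.base.mem_cent_S (h.mem_N (h.cent t ht ht1 (mem_cent_of_commute hg))) ht ht1 hg

theorem cent_le_M (h : Local S M) {a : G} (ha : a ∈ centralizer ((S : Subgroup G) : Set G)) (ha1 : a ≠ 1) :
    centralizer ({a} : Set G) ≤ M :=
  h.uniq _ (h.cent_ne_top ha1) fun s hs => mem_cent_of_commute (mem_centralizer_iff.mp ha s hs)

theorem comm_mem_cent (h : Local S M) {a b : G} (ha : a ∈ M) (hb : b ∈ M) :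
    a * b * a⁻¹ * b⁻¹ ∈ centralizer ((S : Subgroup G) : Set G) := by
  set N := normalizer ((S : Subgroup G) : Set G) with hN
  set C := centralizer ((S : Subgroup G) : Set G) with hC
  haveI : (C.subgroupOf N).Normal := (normal_subgroupOf_iff_le_normalizer (centralizer_le_normalizer _)).mpr
    fun n hn => CfsgLib.Comp.mem_normalizer_of_maps fun c hc => mem_centralizer_iff.mpr fun s hs => by
      have hs' : n⁻¹ * s * n ∈ (S : Subgroup G) := by
        simpa using (mem_normalizer_iff.mp (inv_mem hn) s).mp hs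
      calc s * (n * c * n⁻¹) = n * (n⁻¹ * s * n * c) * n⁻¹ := by group
        _ = n * (c * (n⁻¹ * s * n)) * n⁻¹ := by rw [mem_centralizer_iff.mp hc _ hs']
        _ = _ := by group
  have h7 : Nat.card (N ⧸ C.subgroupOf N) = 7 := by
    have h1 := CfsgLib.card_mul_relIndex (centralizer_le_normalizer _ : C ≤ N)
    rw [Subgroup.relIndex, Subgroup.index_eq_card, h.card_normalizer, mul_comm] at h1
    exact Nat.eq_of_mul_eq_mul_right Nat.card_pos h1
  haveI : Fact (Nat.Prime 7) := ⟨by norm_num⟩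
  haveI : IsCyclic (N ⧸ C.subgroupOf N) := isCyclic_of_prime_card h7
  have h2 : ((⟨a, h.mem_N ha⟩ * ⟨b, h.mem_N hb⟩ * ⟨a, h.mem_N ha⟩⁻¹ * ⟨b, h.mem_N hb⟩⁻¹ : N) :
      N ⧸ C.subgroupOf N) = 1 := by
    rw [QuotientGroup.mk_mul, QuotientGroup.mk_mul, QuotientGroup.mk_mul, QuotientGroup.mk_inv,
      QuotientGroup.mk_inv]
    letI := IsCyclic.commGroup (α := N ⧸ C.subgroupOf N)
    rw [mul_right_comm (QuotientGroup.mk (⟨a, h.mem_N ha⟩ : N) : N ⧸ C.subgroupOf N), mul_inv_cancel, one_mul,
      mul_inv_cancel]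
  have h3 := (QuotientGroup.eq_one_iff (N := C.subgroupOf N) _).mp h2
  exact h3

/-- An element of odd order of `M` inverted by an involution of `S` is trivial. -/
theorem eq_one_of_inverted (h : Local S M) {d s : G} (hd : d ∈ M) (hodd : Odd (orderOf d))
    (hs : s ∈ (S : Subgroup G)) (hinv : s * d * s = d⁻¹) : d = 1 := by
  have h1 : d * d ∈ (S : Subgroup G) := by
    have e : d * s * d⁻¹ * s = d * d := by
      rw [← hinv, show d * s * (s * d * s) * s = d * (s * s) * d * (s * s) by group, h.base.sq s hs]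
      group
    exact e ▸ mul_mem ((mem_normalizer_iff.mp (h.mem_N hd) s).mp hs) hs
  refine eq_one_of_odd_of_pow_four hodd ?_
  have := h.base.sq _ h1
  rw [show (4 : ℕ) = 2 + 2 from rfl, pow_add, pow_two]
  exact this

theorem orderOf_conj' (m d : G) : orderOf (m * d * m⁻¹) = orderOf d :=
  orderOf_injective (MulAut.conj m).toMonoidHom (MulEquiv.injective (MulAut.conj m)) d

/-- An element of odd order inverted by an involution commutes with no element fixed by it. -/
theorem no_fixed (h : Local S M) {u d z : G} (hu : orderOf u = 2) (hodd : Odd (orderOf d)) (hd : d ≠ 1)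
    (hinv : u * d * u = d⁻¹) (hz : z * u = u * z) (hz1 : z ≠ 1) (hdz : d * z = z * d) : False := by
  obtain ⟨m, hm⟩ := exists_conj_into_sylow S
    (IsPGroup.of_card (n := 1) (G := ↥(zpowers u)) (by rw [Nat.card_zpowers, hu, pow_one]))
  have hs : m * u * m⁻¹ ∈ (S : Subgroup G) := hm u (mem_zpowers u)
  have hs1 : m * u * m⁻¹ ≠ 1 := ((isInvol_of_orderOf hu).conj m).1
  have hzC := h.cent_eq hs hs1 (conj_commute m hz)
  have hdM : m * d * m⁻¹ ∈ M :=
    h.cent_le_M hzC (fun e => hz1 (conj_eq_one_iff.mp e)) (mem_cent_of_commute (conj_commute m hdz))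
  refine hd (conj_eq_one_iff.mp (h.eq_one_of_inverted hdM (by rwa [orderOf_conj']) hs ?_))
  calc m * u * m⁻¹ * (m * d * m⁻¹) * (m * u * m⁻¹) = m * (u * d * u) * m⁻¹ := by group
    _ = _ := by rw [hinv]; group

theorem inter_cent (h : Local S M) {u a : G} (hu : orderOf u = 2) (huM : u ∉ M)
    (ha : a ∈ centralizer ((S : Subgroup G) : Set G))
    (hua : u * a * u ∈ centralizer ((S : Subgroup G) : Set G)) : a = 1 := by
  by_contra ha1
  have huu := (isInvol_of_orderOf hu).2
  have hui : u⁻¹ = u := inv_eq_of_mul_eq_one_left huu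
  obtain ⟨t, ht, ht1⟩ := h.exists_invol
  refine huM (h.mem_of_invol (g := u) (h.base.invol ht ht1) (h.SM ht) ?_)
  rw [hui]
  refine h.cent_le_M ha ha1 (mem_cent_of_commute ?_)
  have e := mem_centralizer_iff.mp hua t ht
  calc u * t * u * a = u * (t * (u * a * u)) * u := by
        rw [show u * (t * (u * a * u)) * u = u * t * u * a * (u * u) by group, huu, mul_one]
    _ = u * (u * a * u * t) * u := by rw [e]
    _ = _ := by rw [show u * (u * a * u * t) * u = (u * u) * a * u * t * u by group, huu]; group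

theorem inter_comm (h : Local S M) {u a b : G} (hu : orderOf u = 2) (huM : u ∉ M) (ha : a ∈ inter M u)
    (hb : b ∈ inter M u) : a * b = b * a := by
  have huu := (isInvol_of_orderOf hu).2
  have hui : u⁻¹ = u := inv_eq_of_mul_eq_one_left huu
  have ha' := inter_swap huu ha
  have hb' := inter_swap huu hb
  have h1 := h.inter_cent hu huM (h.comm_mem_cent ha.1 hb.1) (a := a * b * a⁻¹ * b⁻¹) ?_
  · rw [mul_inv_eq_one, mul_inv_eq_iff_eq_mul] at h1
    exact h1
  · have e := h.comm_mem_cent ha'.1 hb'.1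
    rwa [show u * a * u * (u * b * u) * (u * a * u)⁻¹ * (u * b * u)⁻¹ =
      u * a * (u * u) * b * (u * u⁻¹) * a⁻¹ * (u⁻¹ * u⁻¹) * b⁻¹ * u⁻¹ by group, hui, huu, mul_one, mul_one,
      mul_one, show u * a * b * a⁻¹ * b⁻¹ * u = u * (a * b * a⁻¹ * b⁻¹) * u by group] at e

/-- For an involution `u` outside `M`, `M ⊓ M ^ u` has order seven and is inverted by `u`. -/
theorem inter_spec (h : Local S M) {u : G} (hu : orderOf u = 2) (huM : u ∉ M) :
    Nat.card (inter M u) = 7 ∧ ∀ d ∈ inter M u, u * d * u = d⁻¹ := by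
  have huu := (isInvol_of_orderOf hu).2
  have hodd := h.inter_odd huM
  have h7 := h.card_inverted hu huM
  rw [h.seven] at h7
  obtain ⟨⟨d, hd, hdi⟩, hd1⟩ : ∃ d : {d : G // d ∈ inter M u ∧ u * d * u = d⁻¹}, (d : G) ≠ 1 := by
    by_contra hc
    push Not at hc
    haveI : Subsingleton {d : G // d ∈ inter M u ∧ u * d * u = d⁻¹} :=
      ⟨fun a b => Subtype.ext ((hc a).trans (hc b).symm)⟩
    have := Finite.card_le_one_iff_subsingleton.mpr ‹_›
    omega
  have hall := all_inverted hodd huu (fun a ha => inter_swap huu ha) fun w hw hwu => by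
    by_contra hw1
    exact h.no_fixed hu (Odd.of_dvd_nat hodd (orderOf_dvd_natCard _ hd)) hd1 hdi hwu hw1 (h.inter_comm hu huM hd hw)
  refine ⟨?_, hall⟩
  rw [← h7]
  exact Nat.card_congr
    { toFun := fun d => ⟨d.1, d.2, hall _ d.2⟩
      invFun := fun d => ⟨d.1, d.2.1⟩
      left_inv := fun _ => rfl
      right_inv := fun _ => rfl }

/-- The base point. -/
abbrev base_pt (M : Subgroup G) : G ⧸ M := ((1 : G) : G ⧸ M)

theorem fix_base {x : G} : x • base_pt M = base_pt M ↔ x ∈ M := by
  rw [MulAction.Quotient.smul_mk, smul_eq_mul, mul_one, eq_comm, QuotientGroup.eq]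
  simp

theorem exists_swap_pt (h : Local S M) {β : G ⧸ M} (hβ : β ≠ base_pt M) :
    Nat.card {i : G // orderOf i = 2 ∧ i • base_pt M = β} = 7 := by
  rw [Cfsg.Agent.S1224.result M h.strongly _ _ (Ne.symm hβ), h.seven]

theorem not_mem_of_swap {i : G} {β : G ⧸ M} (hβ : β ≠ base_pt M) (hi : i • base_pt M = β) : i ∉ M :=
  fun hiM => hβ (hi ▸ fix_base.mpr hiM)

theorem swap_back {i : G} (hi : orderOf i = 2) {α β : G ⧸ M} (hib : i • α = β) : i • β = α := by
  rw [← hib, smul_smul, (isInvol_of_orderOf hi).2, one_smul]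

theorem mem_inter_of_fix {i x : G} (hi : orderOf i = 2) {β : G ⧸ M} (hib : i • base_pt M = β)
    (hxM : x ∈ M) (hx : x • β = β) : x ∈ inter M i := by
  refine (mem_inter (isInvol_of_orderOf hi).2).mpr ⟨hxM, fix_base.mp ?_⟩
  rw [mul_smul, mul_smul, hib, hx, swap_back hi hib]

theorem fix_of_mem_inter {i x : G} (hi : orderOf i = 2) {β : G ⧸ M} (hib : i • base_pt M = β)
    (hx : x ∈ inter M i) : x • β = β := by
  have h1 := fix_base.mpr ((mem_inter (isInvol_of_orderOf hi).2).mp hx).2
  rw [mul_smul, mul_smul, hib] at h1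
  calc x • β = i • i • x • β := by rw [smul_smul, (isInvol_of_orderOf hi).2, one_smul]
    _ = β := by rw [h1, hib]

theorem contra (h : Local S M) (h9 : ¬ 9 ∣ Nat.card G) : False := by
  classical
  haveI := h.simple
  haveI : Fact (Nat.Prime 7) := ⟨by norm_num⟩
  set α := base_pt M with hα
  obtain ⟨g, hg⟩ : ∃ g, g ∉ M := by
    by_contra hc
    push Not at hc
    exact h.ne_top (top_le_iff.mp fun g _ => hc g)
  obtain ⟨u, hu, huM, -⟩ := h.exists_swap hg
  have huu := (isInvol_of_orderOf hu).2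
  have hui : u⁻¹ = u := inv_eq_of_mul_eq_one_left huu
  obtain ⟨hD7, hDinv⟩ := h.inter_spec hu huM
  set D := inter M u with hD
  have hD0 : D ≠ ⊥ := fun e => by rw [e, card_bot] at hD7; omega
  obtain ⟨y, hyD, hy1⟩ := (bot_or_exists_ne_one D).resolve_left hD0
  have hy7 : orderOf y = 7 := by
    have := orderOf_dvd_natCard D hyD
    rw [hD7] at this
    rcases (Nat.dvd_prime (by norm_num)).mp this with e | e
    exacts [absurd (orderOf_eq_one_iff.mp e) hy1, e]
  have hY : zpowers y = D := eq_of_le_of_card_ge (zpowers_le.mpr hyD) (by rw [Nat.card_zpowers, hy7, hD7])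
  have hyodd : Odd (orderOf y) := hy7 ▸ by decide
  have hyi := hDinv y hyD
  -- `C(y)` has odd order
  set C := centralizer ({y} : Set G) with hC
  have hCodd : Odd (Nat.card C) := by
    by_contra hev
    obtain ⟨s, hs⟩ := exists_prime_orderOf_dvd_card' (G := ↥C) 2
      (even_iff_two_dvd.mp (Nat.not_odd_iff_even.mp hev))
    rw [← Subgroup.orderOf_coe] at hs
    obtain ⟨m, hm⟩ := exists_conj_into_sylow S
      (IsPGroup.of_card (n := 1) (G := ↥(zpowers (s : G))) (by rw [Nat.card_zpowers, hs, pow_one]))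
    have hmS := hm _ (mem_zpowers _)
    set y' := m * y * m⁻¹ with hy'
    have hy'1 : y' ≠ 1 := fun e => hy1 (conj_eq_one_iff.mp e)
    have hy'C : y' ∈ centralizer ((S : Subgroup G) : Set G) :=
      h.cent_eq hmS ((isInvol_of_orderOf hs).conj m).1 (conj_commute m (commute_of_mem_cent s.2).symm)
    have hy'M : y' ∈ M := h.NS (centralizer_le_normalizer _ hy'C)
    have h0 : zpowers y' ≠ ⊥ := fun e => hy'1 (zpowers_eq_bot.mp e)
    have h1 : zpowers y' ≠ ⊤ := fun e => h.ne_top (top_le_iff.mp (e ▸ zpowers_le.mpr hy'M))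
    have hle := h.uniq _ (normalizer_ne_top h.simple h0 h1) fun w hw =>
      centralizer_le_normalizer _ (mem_centralizer_iff.mpr fun z hz => by
        obtain ⟨k, rfl⟩ := mem_zpowers_iff.mp hz
        exact ((show Commute w y' from mem_centralizer_iff.mp hy'C w hw).zpow_right k).eq.symm)
    have hu' : m * u * m⁻¹ ∈ normalizer (zpowers y' : Set G) := CfsgLib.Comp.mem_normalizer_of_maps fun z hz => by
      obtain ⟨k, rfl⟩ := mem_zpowers_iff.mp hz
      refine mem_zpowers_iff.mpr ⟨-k, ?_⟩
      have e : m * u * m⁻¹ * y' * (m * u * m⁻¹)⁻¹ = y'⁻¹ := by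
        rw [hy', show m * u * m⁻¹ * (m * y * m⁻¹) * (m * u * m⁻¹)⁻¹ = m * (u * y * u⁻¹) * m⁻¹ by group, hui, hyi]
        group
      rw [← MulAut.conj_apply, map_zpow, MulAut.conj_apply, e, inv_zpow']
    have hu'S := h.invol_mem_S (((isInvol_of_orderOf hu).conj m).orderOf_eq) (hle hu')
    refine hy'1 (h.eq_one_of_inverted hy'M (by rwa [hy', orderOf_conj']) hu'S ?_)
    rw [hy', show m * u * m⁻¹ * (m * y * m⁻¹) * (m * u * m⁻¹) = m * (u * y * u) * m⁻¹ by group, hyi]
    group
  -- `u` inverts `C(y)`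
  have hCu : ∀ z ∈ C, u * z * u ∈ C := fun z hz => mem_cent_of_commute (by
    have e : u * y⁻¹ * u = y := by rw [← hyi]; rw [show u * (u * y * u) * u = (u * u) * y * (u * u) by group, huu]; group
    have e2 : Commute z y⁻¹ := (show Commute z y from commute_of_mem_cent hz).inv_right
    calc u * z * u * y = u * z * (u * (u * y⁻¹ * u)) := by rw [e]; group
      _ = u * (z * y⁻¹) * u := by rw [show u * (u * y⁻¹ * u) = (u * u) * y⁻¹ * u by group, huu]; group
      _ = u * (y⁻¹ * z) * u := by rw [e2.eq]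
      _ = (u * y⁻¹ * u) * (u * z * u) := by
        rw [show u * y⁻¹ * u * (u * z * u) = u * y⁻¹ * (u * u) * z * u by group, huu]; group
      _ = _ := by rw [e])
  have hCinv := all_inverted hCodd huu hCu fun z hz hzu => by
    by_contra hz1
    exact h.no_fixed hu hyodd hy1 hyi hzu hz1 (commute_of_mem_cent hz).symm
  have hCM : ∀ z ∈ M, z * y = y * z → z ∈ D := fun z hzM hzy => (mem_inter huu).mpr
    ⟨hzM, by rw [hCinv z (mem_cent_of_commute hzy)]; exact inv_mem hzM⟩
  -- the normalizer of `D` in `M` is `D`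
  have hNM : ∀ n ∈ M, n ∈ normalizer (D : Set G) → n ∈ D := fun n hnM hn => by
    refine hCM n hnM ?_
    have h1 : n * y * n⁻¹ * y⁻¹ ∈ D := mul_mem ((mem_normalizer_iff.mp hn y).mp hyD) (inv_mem hyD)
    have h2 := h.comm_mem_cent hnM hyD.1
    have h3 : n * y * n⁻¹ * y⁻¹ = 1 := h.inter_cent hu huM h2 (by rw [hDinv _ h1]; exact inv_mem h2)
    rw [mul_inv_eq_one, mul_inv_eq_iff_eq_mul] at h3
    exact h3
  -- `D` is a Sylow subgroup of `M`
  have hDM : D ≤ M := inf_le_left
  have hDc : Nat.card (D.subgroupOf M) = 7 := by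
    rw [Nat.card_congr (subgroupOfEquivOfLe hDM).toEquiv, hD7]
  have h49 : ¬ 7 ^ 2 ∣ Nat.card M := fun hd => by
    have h1 := Sylow.prime_pow_dvd_card_normalizer (n := 1) hd (H := D.subgroupOf M) (by rw [hDc, pow_one])
    have h2 : normalizer ((D.subgroupOf M : Subgroup M) : Set M) ≤ D.subgroupOf M := fun a ha =>
      hNM a a.2 (CfsgLib.Comp.mem_normalizer_of_maps fun d hd =>
        (mem_normalizer_iff.mp ha ⟨d, hDM hd⟩).mp hd)
    have h3 := h1.trans (card_dvd_of_le h2)
    rw [hDc] at h3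
    exact absurd (Nat.le_of_dvd (by norm_num) h3) (by norm_num)
  have h7M : (Nat.card M).factorization 7 = 1 := by
    refine le_antisymm ?_ ?_
    · by_contra hc
      push Not at hc
      exact h49 ((pow_dvd_pow 7 hc).trans (Nat.ordProj_dvd _ _))
    · refine (Nat.prime_iff.mp (by norm_num : Nat.Prime 7) |> fun _ => ?_)
      exact Nat.Prime.factorization_pos_of_dvd (by norm_num) Nat.card_pos.ne' (hD7 ▸ card_dvd_of_le hDM)
  -- `y` fixes only `α` and `u • α`
  have hyα : y • α = α := fix_base.mpr hyD.1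
  set β₀ := u • α with hβ₀
  have hβ₀ne : β₀ ≠ α := fun e => huM (fix_base.mp e)
  have hyβ₀ : y • β₀ = β₀ := fix_of_mem_inter hu rfl hyD
  let A := {β : G ⧸ M // y • β = β ∧ β ≠ α}
  have hA : Nat.card A ≤ 1 := by
    let f : (Σ β : A, {i : G // orderOf i = 2 ∧ i • α = β.1}) → C := fun p => ⟨u * p.2.1, mem_cent_of_commute (by
      obtain ⟨⟨β, hβy, hβ⟩, ⟨i, hi, hiβ⟩⟩ := p
      have h1 := (h.inter_spec hi (not_mem_of_swap hβ hiβ)).2 y (mem_inter_of_fix hi hiβ hyD.1 hβy)
      have hii := (isInvol_of_orderOf hi).2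
      show u * i * y = y * (u * i)
      calc u * i * y = u * (i * y * i) * i := by
            rw [show u * (i * y * i) * i = u * i * y * (i * i) by group, hii, mul_one]
        _ = u * (u * y * u) * i := by rw [h1, hyi]
        _ = _ := by rw [show u * (u * y * u) * i = (u * u) * y * u * i by group, huu]; group)⟩
    have hf : Function.Injective f := by
      rintro ⟨⟨β, hβ⟩, ⟨i, hi, hiβ⟩⟩ ⟨⟨β', hβ'⟩, ⟨i', hi', hiβ'⟩⟩ e
      have e1 : i = i' := mul_left_cancel (congrArg Subtype.val e)
      subst e1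
      have e2 : β = β' := hiβ.symm.trans hiβ'
      subst e2
      rfl
    have h1 := Nat.card_le_card_of_injective f hf
    letI := Fintype.ofFinite A
    rw [Nat.card_sigma, Finset.sum_congr rfl (fun β _ => h.exists_swap_pt β.2.2), Finset.sum_const,
      Finset.card_univ, ← Nat.card_eq_fintype_card, smul_eq_mul] at h1
    set N := normalizer (D : Set G) with hN
    have hCN : C ≤ N := fun z hz => centralizer_le_normalizer _ (by
      rw [← hY]
      refine mem_centralizer_iff.mpr fun w hw => ?_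
      obtain ⟨k, rfl⟩ := mem_zpowers_iff.mp hw
      exact ((show Commute z y from commute_of_mem_cent hz).zpow_right k).eq.symm)
    have huN : u ∈ N := CfsgLib.Comp.mem_normalizer_of_maps fun d hd => by rw [hui]; exact inter_swap huu hd
    have huC : u ∉ C := fun hc => by
      have h2 := orderOf_dvd_natCard C hc
      rw [hu] at h2
      exact Nat.not_even_iff_odd.mpr hCodd (even_iff_two_dvd.mpr h2)
    have h2 : 2 * Nat.card C ≤ Nat.card N := by
      rw [← CfsgLib.card_mul_relIndex hCN, mul_comm]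
      refine Nat.mul_le_mul_left _ ?_
      rcases Nat.lt_or_ge (C.relIndex N) 2 with hlt | hge
      · exfalso
        have h3 : C.relIndex N = 1 := by
          have : C.relIndex N ≠ 0 := Subgroup.index_ne_zero_of_finite
          omega
        exact huC (Subgroup.relIndex_eq_one.mp h3 huN)
      · exact hge
    have h3 : Nat.card N ≤ 7 * (Nat.card A + 1) := by
      let φ : N → {β : G ⧸ M // y • β = β} := fun n => ⟨(n : G) • α, by
        have hm : (n : G)⁻¹ * y * (n : G) ∈ D := by
          have := (mem_normalizer_iff.mp (inv_mem n.2) y).mp hyD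
          simpa using this
        calc y • (n : G) • α = (n : G) • ((n : G)⁻¹ * y * (n : G)) • α := by
              rw [smul_smul, smul_smul]; congr 1; group
          _ = _ := by rw [fix_base.mpr hm.1]⟩
      let ψ : N ⧸ M.subgroupOf N → {β : G ⧸ M // y • β = β} := Quotient.lift φ fun a b hab => Subtype.ext (by
        have h4' : a⁻¹ * b ∈ M.subgroupOf N := QuotientGroup.leftRel_apply.mp hab
        have h4 : (a : G)⁻¹ * b ∈ M := h4'
        show (a : G) • α = (b : G) • α
        conv_rhs => rw [show (b : G) = a * ((a : G)⁻¹ * b) by group, mul_smul, fix_base.mpr h4])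
      have hψ : Function.Injective ψ := by
        rintro ⟨a⟩ ⟨b⟩ e
        refine Quotient.sound (QuotientGroup.leftRel_apply.mpr ?_)
        show ((a⁻¹ * b : N) : G) ∈ M
        have e' : (a : G) • α = (b : G) • α := congrArg Subtype.val e
        rw [← fix_base, Subgroup.coe_mul, Subgroup.coe_inv, mul_smul, ← hα, ← e', inv_smul_smul]
      have h4 := Nat.card_le_card_of_injective ψ hψ
      rw [← Subgroup.index_eq_card] at h4
      have h5 : Nat.card {β : G ⧸ M // y • β = β} ≤ Nat.card A + 1 := by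
        rw [← Set.coe_setOf, Nat.card_coe_set_eq,
          show {β : G ⧸ M | y • β = β} = insert α {β | y • β = β ∧ β ≠ α} by
            ext β
            simp only [Set.mem_setOf_eq, Set.mem_insert_iff]
            by_cases e : β = α
            · subst e; simp [hyα]
            · simp [e]]
        refine (Set.ncard_insert_le _ _).trans ?_
        rw [← Nat.card_coe_set_eq]
        exact le_rfl
      have h6 : Nat.card (M.subgroupOf N) ≤ 7 := by
        rw [← hD7]
        refine Nat.card_le_card_of_injective (fun a => (⟨((a : N) : G), hNM _ a.2 (a : N).2⟩ : D))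
          fun a b e => ?_
        exact Subtype.ext (Subtype.ext (congrArg Subtype.val e :))
      rw [← Subgroup.card_mul_index (M.subgroupOf N)]
      exact Nat.mul_le_mul h6 (h4.trans h5)
    omega
  have huniq : ∀ β, y • β = β → β ≠ α → β = β₀ := fun β hβ hne => by
    haveI := Finite.card_le_one_iff_subsingleton.mp hA
    exact congrArg Subtype.val (Subsingleton.elim (⟨β, hβ, hne⟩ : A) ⟨β₀, hyβ₀, hβ₀ne⟩)
  -- `M` is transitive on the other points
  have hsylow : ∀ {E : Subgroup G}, E ≤ M → Nat.card E = 7 →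
      ∃ m ∈ M, m * y * m⁻¹ ∈ E := by
    intro E hE hEc
    let P : Sylow 7 M := Sylow.ofCard (D.subgroupOf M) (by rw [hDc, h7M, pow_one])
    let Q : Sylow 7 M := Sylow.ofCard (E.subgroupOf M) (by
      rw [Nat.card_congr (subgroupOfEquivOfLe hE).toEquiv, hEc, h7M, pow_one])
    obtain ⟨m, hm⟩ := MulAction.exists_smul_eq M P Q
    refine ⟨m, m.2, ?_⟩
    have h1 : m * (⟨y, hyD.1⟩ : M) * m⁻¹ ∈ (Q : Subgroup M) := by
      rw [← hm, Sylow.coe_subgroup_smul]
      exact Subgroup.smul_mem_pointwise_smul _ (MulAut.conj m) (P : Subgroup M) hyD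
    exact h1
  have htrans : ∀ β, β ≠ α → ∃ m ∈ M, m • β₀ = β := by
    intro β hβ
    obtain ⟨⟨i, hi, hiβ⟩⟩ := (Nat.card_pos_iff.mp (h.exists_swap_pt hβ ▸ (by norm_num : 0 < 7))).1
    obtain ⟨m, hm, hmy⟩ := hsylow (E := inter M i) inf_le_left (h.inter_spec hi (not_mem_of_swap hβ hiβ)).1
    have h1 := fix_of_mem_inter hi hiβ hmy
    refine ⟨m, hm, ?_⟩
    have h2 : y • m⁻¹ • β = m⁻¹ • β := by
      conv_rhs => rw [← h1]
      rw [smul_smul, smul_smul]; congr 1; group
    have h3 : m⁻¹ • β ≠ α := fun e => hβ (by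
      rw [← smul_inv_smul m β, e, fix_base.mpr hm])
    rw [← huniq _ h2 h3, smul_inv_smul]
  have hcard : Nat.card (G ⧸ M) = Nat.card ↥(centralizer ((S : Subgroup G) : Set G)) + 1 := by
    let φ : M → {β : G ⧸ M // β ≠ α} := fun m => ⟨(m : G) • β₀, fun e => hβ₀ne (by
      rw [← inv_smul_smul (m : G) β₀, e, fix_base.mpr (inv_mem m.2)])⟩
    let ψ : M ⧸ D.subgroupOf M → {β : G ⧸ M // β ≠ α} := Quotient.lift φ fun a b hab => Subtype.ext (by
      have h4' : a⁻¹ * b ∈ D.subgroupOf M := QuotientGroup.leftRel_apply.mp hab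
      have h4 : (a : G)⁻¹ * b ∈ D := h4'
      show (a : G) • β₀ = (b : G) • β₀
      conv_rhs => rw [show (b : G) = a * ((a : G)⁻¹ * b) by group, mul_smul, fix_of_mem_inter hu rfl h4])
    have hψ : Function.Bijective ψ := by
      refine ⟨?_, fun β => ?_⟩
      · rintro ⟨a⟩ ⟨b⟩ e
        refine Quotient.sound (QuotientGroup.leftRel_apply.mpr ?_)
        refine mem_inter_of_fix hu rfl (mul_mem (inv_mem a.2) b.2) ?_
        show ((a : G)⁻¹ * b) • β₀ = β₀
        have e' : (a : G) • β₀ = (b : G) • β₀ := congrArg Subtype.val e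
        rw [mul_smul, ← e', inv_smul_smul]
      · obtain ⟨m, hm, e⟩ := htrans β.1 β.2
        exact ⟨QuotientGroup.mk ⟨m, hm⟩, Subtype.ext e⟩
    have h1 := Nat.card_eq_of_bijective ψ hψ
    have h2 := Subgroup.card_mul_index (D.subgroupOf M)
    have hM : Nat.card M = 7 * Nat.card ↥(centralizer ((S : Subgroup G) : Set G)) :=
      (congrArg (fun H : Subgroup G => Nat.card H) h.eq_normalizer).trans h.card_normalizer
    rw [hDc, Subgroup.index_eq_card, h1, hM] at h2
    have h3 : Nat.card {β : G ⧸ M // β ≠ α} = Nat.card (G ⧸ M) - 1 := by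
      rw [← Set.coe_setOf, Nat.card_coe_set_eq, show {β : G ⧸ M | β ≠ α} = ({α} : Set (G ⧸ M))ᶜ by ext; simp,
        Set.ncard_compl, Set.ncard_singleton]
    have h4 : 0 < Nat.card (G ⧸ M) := Nat.card_pos
    omega
  have h2t : ∀ a b : G ⧸ M, a ≠ b → ∃ k : G, k • a = α ∧ k • b = β₀ := by
    intro a b hab
    obtain ⟨k, hk⟩ := MulAction.exists_smul_eq G a α
    obtain ⟨m, hm, e⟩ := htrans (k • b) fun e => hab (MulAction.injective k (hk.trans e.symm))
    refine ⟨m⁻¹ * k, ?_, ?_⟩
    · rw [mul_smul, hk, fix_base.mpr (inv_mem hm)]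
    · rw [mul_smul, ← e, inv_smul_smul]
  letI := Fintype.ofFinite (G ⧸ M)
  have hZ : IsZassenhausGroup G (G ⧸ M) := by
    refine ⟨⟨fun {a b} hab => ?_⟩, ?_, ?_, ⟨y, hy1, α, β₀, Ne.symm hβ₀ne, hyα, hyβ₀⟩, ?_⟩
    · rcases normal_cases h.simple M.normalCore with e | e
      · have h1 : a⁻¹ * b ∈ M.normalCore := by
          rw [Subgroup.normalCore_eq_ker]
          refine MonoidHom.mem_ker.mpr (Equiv.ext fun β => ?_)
          show (a⁻¹ * b) • β = β
          rw [mul_smul, ← hab β, inv_smul_smul]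
        rw [e, mem_bot] at h1
        exact (inv_mul_eq_one.mp h1)
      · exact absurd (top_le_iff.mp (e ▸ M.normalCore_le)) h.ne_top
    · refine MulAction.is_two_pretransitive_iff.mpr fun {a b c d} hab hcd => ?_
      obtain ⟨k, hka, hkb⟩ := h2t a b hab
      obtain ⟨l, hlc, hld⟩ := h2t c d hcd
      exact ⟨l⁻¹ * k, by rw [mul_smul, hka, ← hlc, inv_smul_smul], by rw [mul_smul, hkb, ← hld, inv_smul_smul]⟩
    · intro x a b c hab hbc hac hxa hxb hxc
      by_contra hx1
      obtain ⟨k, hka, hkb⟩ := h2t a b hab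
      set x' := k * x * k⁻¹ with hx'
      have hfix : ∀ e : G ⧸ M, x • e = e → x' • k • e = k • e := fun e he => by
        rw [hx', mul_smul, mul_smul, inv_smul_smul, he]
      have h1 : x' • α = α := hka ▸ hfix a hxa
      have h2 : x' • β₀ = β₀ := hkb ▸ hfix b hxb
      have h3 : x' ∈ D := mem_inter_of_fix hu rfl (fix_base.mp h1) h2
      have h4 : zpowers x' = D := by
        refine eq_of_le_of_card_ge (zpowers_le.mpr h3) ?_
        have := orderOf_dvd_natCard D h3
        rw [hD7] at this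
        rcases (Nat.dvd_prime (by norm_num)).mp this with e | e
        · exact absurd (conj_eq_one_iff.mp (orderOf_eq_one_iff.mp e)) hx1
        · rw [Nat.card_zpowers, e, hD7]
      have h5 : y ∈ MulAction.stabilizer G (k • c) := by
        have : zpowers x' ≤ MulAction.stabilizer G (k • c) :=
          zpowers_le.mpr (MulAction.mem_stabilizer_iff.mpr (hfix c hxc))
        exact this (h4.symm ▸ hyD)
      rcases eq_or_ne (k • c) α with e | e
      · exact hac (MulAction.injective k (hka.trans e.symm))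
      · exact hbc (MulAction.injective k (hkb.trans (huniq _ h5 e).symm))
    · intro N hN hNt
      rcases normal_cases h.simple N with rfl | rfl
      · obtain ⟨⟨n, hn⟩, e⟩ := hNt.exists_smul_eq α β₀
        rw [mem_bot] at hn
        subst hn
        exact absurd (by rw [← e]; exact one_smul G α) hβ₀ne
      · refine ⟨α, fun e => hy1 ?_⟩
        have h1 : (⟨y, mem_top y⟩ : (⊤ : Subgroup G)) ∈ MulAction.stabilizer (⊤ : Subgroup G) α := hyα
        have h2 := mem_bot.mp (e.le h1)
        exact congrArg Subtype.val h2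
  have hpp := Cfsg.Agent.S0346.result hZ
  rw [← Nat.card_eq_fintype_card, hcard, Nat.add_sub_cancel] at hpp
  -- `C(S) = S`
  haveI : Fact (Nat.Prime 2) := ⟨Nat.prime_two⟩
  set CS := centralizer ((S : Subgroup G) : Set G)
  have hSC : (S : Subgroup G) ≤ CS := fun s hs => mem_centralizer_iff.mpr fun w hw => h.base.comm hw hs
  obtain ⟨p, k, hp, -, hpk⟩ := hpp
  have hp2 : p = 2 := by
    have h1 : 2 ∣ p ^ k := hpk ▸ (by rw [h.base.card]; norm_num : 2 ∣ Nat.card (S : Subgroup G)).trans
      (card_dvd_of_le hSC)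
    exact ((Nat.prime_dvd_prime_iff_eq Nat.prime_two hp.nat_prime).mp (Nat.prime_two.dvd_of_dvd_pow h1)).symm
  subst hp2
  have hCS : CS = (S : Subgroup G) := S.3 (IsPGroup.of_card hpk.symm) hSC
  have h1 : Nat.card (G ⧸ M) = 9 := by rw [hcard, hCS, h.base.card]
  refine h9 ?_
  rw [← h1, ← Subgroup.index_eq_card]
  exact M.index_dvd_card

end Local

end CfsgLib.HallE8
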